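import Cfsg.Agent.Lib.NormRankTwoAuto23.Basic

/-!
# An abelian `[T, A]`

`T` is a four-group, or homocyclic of rank two, or `[T, A]` has index two and an involution outside
inverts all its squares.
-/

set_option autoImplicit false
set_option linter.unusedSectionVars false
set_option linter.style.haveILetI false

namespace Cfsg.Agent.Lib.NormRankTwoAuto23

open scoped commutatorElement
open Cfsg.Agent.Lib.TwoGroupOddAuto (eq_of_card_four eq_of_fixed_error closure_elemAb)

variable {T : Type*} [Group T] {A : Subgroup (MulAut T)}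

/-- The involutions and the identity of an abelian subgroup. -/
def omega {X : Subgroup T} (hX : ∀ a ∈ X, ∀ b ∈ X, a * b = b * a) : Subgroup T where
  carrier := {v | v ∈ X ∧ v ^ 2 = 1}
  one_mem' := ⟨X.one_mem, one_pow 2⟩
  mul_mem' := fun {a b} ha hb => ⟨X.mul_mem ha.1 hb.1, by
    rw [(show Commute a b from hX a ha.1 b hb.1).mul_pow, ha.2, hb.2, one_mul]⟩
  inv_mem' := fun {a} ha => ⟨X.inv_mem ha.1, by rw [inv_pow, ha.2, inv_one]⟩

theorem mem_omega {X : Subgroup T} {hX : ∀ a ∈ X, ∀ b ∈ X, a * b = b * a} {v : T} :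
    v ∈ omega hX ↔ v ∈ X ∧ v ^ 2 = 1 := Iff.rfl

/-- An abelian, nontrivial `[T, A]`. -/
structure AbDispl (A : Subgroup (MulAut T)) : Prop where
  sys : Sys A
  comm : ∀ a ∈ displ A, ∀ b ∈ displ A, a * b = b * a
  ne_bot : displ A ≠ ⊥

/-- The alternative for `|T : [T, A]| = 2`. -/
structure Inverted (X : Subgroup T) (c : T) : Prop where
  cover : ∀ t : T, t ∈ X ∨ c⁻¹ * t ∈ X
  not_mem : c ∉ X
  cc : c * c = 1
  comm : ∀ a ∈ X, ∀ b ∈ X, a * b = b * a
  card_omega : Nat.card (omega comm) = 4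
  central : ∀ v ∈ X, v ^ 2 = 1 → ∀ t : T, t * v = v * t
  inverts : ∀ x ∈ X, c * x ^ 2 * c⁻¹ = (x ^ 2)⁻¹
  roots : ∀ v ∈ X, v ^ 2 = 1 → ∃ x ∈ X, (x ^ 2) ^ 2 = v

namespace AbDispl

variable [Finite T] (h : AbDispl A)
include h

theorem commute {a b : T} (ha : a ∈ displ A) (hb : b ∈ displ A) : Commute a b := h.comm a ha b hb

/-- `[T, A]` has no fixed points. -/
theorem fixed_eq_one {x : T} (hx : x ∈ displ A) (hfix : ∀ φ ∈ A, φ x = x) : x = 1 :=
  Subgroup.mem_bot.1 (h.sys.fpf_displ inferInstance (fun a ha b hb => Subgroup.mem_bot.2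
    (commutatorElement_eq_one_iff_mul_comm.2 (h.comm a ha b hb))) hx
    fun φ hφ => Subgroup.mem_bot.2 (by rw [hfix φ hφ, inv_mul_cancel]))

theorem exists_invol : ∃ e ∈ displ A, e ≠ 1 ∧ e ^ 2 = 1 := by
  classical
  obtain ⟨x, hx, hx1⟩ := (Subgroup.bot_or_exists_ne_one _).resolve_left h.ne_bot
  obtain ⟨k, hk⟩ := h.sys.pg x
  have hex : ∃ i, x ^ 2 ^ i = 1 := ⟨k, hk⟩
  rcases hn : Nat.find hex with _ | i
  · have := Nat.find_spec hex
    rw [hn, pow_zero, pow_one] at this
    exact absurd this hx1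
  · refine ⟨x ^ 2 ^ i, (displ A).pow_mem hx _, Nat.find_min hex (by omega), ?_⟩
    rw [← pow_mul, ← pow_succ, ← hn]
    exact Nat.find_spec hex

theorem omega_normal : (omega h.comm).Normal :=
  ⟨fun v hv t => ⟨(displ_normal (A := A)).conj_mem v hv.1 t, by rw [conj_pow, hv.2]; simp⟩⟩

/-- Some automorphism in `A` moves every involution of `[T, A]`, and these form a four-group. -/
theorem exists_phi : ∃ φ ∈ A, (∀ v ∈ omega h.comm, v ≠ 1 → φ v ≠ v) ∧
    Nat.card (omega h.comm) = 4 := by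
  haveI : Fact (Nat.Prime 2) := ⟨Nat.prime_two⟩
  have hle : Nat.card (omega h.comm) ≤ 4 := h.sys.small _ h.omega_normal
    ⟨⟨fun a b => Subtype.ext (h.comm a a.2.1 b b.2.1)⟩⟩ fun b hb => hb.2
  obtain ⟨e, he, he1, he2⟩ := h.exists_invol
  obtain ⟨φ, hφ, hφe⟩ : ∃ φ ∈ A, φ e ≠ e := by
    by_contra hcon
    push Not at hcon
    exact he1 (h.fixed_eq_one he hcon)
  have hinv : ∀ {ψ : MulAut T}, ψ ∈ A → ∀ {v : T}, v ∈ omega h.comm → ψ v ∈ omega h.comm :=
    fun hψ v hv => ⟨displ_inv hψ hv.1, by rw [← map_pow, hv.2, map_one]⟩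
  have he' : e ∈ omega h.comm := ⟨he, he2⟩
  have hcard : Nat.card (omega h.comm) = 4 := by
    refine le_antisymm hle ?_
    let f : Bool × Bool → omega h.comm := fun b =>
      ⟨(if b.1 then e else 1) * (if b.2 then φ e else 1), by
        refine Subgroup.mul_mem _ ?_ ?_
        · split <;> [exact he'; exact Subgroup.one_mem _]
        · split <;> [exact hinv hφ he'; exact Subgroup.one_mem _]⟩
    have h2 : φ e ≠ 1 := fun hh => he1 ((map_eq_one_iff φ φ.injective).1 hh)
    have h3 : e * φ e ≠ 1 := fun hh => hφe (by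
      rw [eq_inv_of_mul_eq_one_right hh, inv_eq_of_mul_eq_one_right (by rw [← pow_two, he2])])
    have hee : e * e = 1 := by rw [← pow_two, he2]
    have hff : φ e * φ e = 1 := by rw [← map_mul, hee, map_one]
    have hf : Function.Injective f := by
      rintro ⟨_ | _, _ | _⟩ ⟨_ | _, _ | _⟩ hab <;>
        have hab' := congrArg Subtype.val hab <;>
        simp [f, he1, h2, h3, hφe, Ne.symm he1, Ne.symm h2, Ne.symm h3, Ne.symm hφe] at hab' ⊢
    have := Nat.card_le_card_of_injective f hf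
    simpa using this
  refine ⟨φ, hφ, fun v hv hv1 hfix => ?_, hcard⟩
  by_cases hev : e = v
  · exact hφe (hev ▸ hfix)
  have hve : v * e ≠ 1 := fun hh => hev (by
    rw [eq_inv_of_mul_eq_one_right hh, inv_eq_of_mul_eq_one_right (by rw [← pow_two, hv.2])])
  rcases eq_of_card_four hcard hv he' hv1 he1 (Ne.symm hev) hve (hinv hφ he') with h1 | h1 | h1 | h1
  · exact he1 ((map_eq_one_iff φ φ.injective).1 h1)
  · exact hev (φ.injective (h1.trans hfix.symm))
  · exact hφe h1
  · exact hv1 (eq_of_fixed_error (h.sys.odd.of_dvd_nat (Subgroup.orderOf_dvd_natCard A hφ))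
      (h1.trans (h.comm v hv.1 e he)) hfix hv.2)

/-- The level lemma. -/
theorem level {φ : MulAut T} (hφ : φ ∈ A) (hmove : ∀ v ∈ omega h.comm, v ≠ 1 → φ v ≠ v)
    (hcard : Nat.card (omega h.comm) = 4) {U : Subgroup T} :
    ∀ k, ∀ u ∈ displ A, u ∈ U → φ u ∈ U → u ^ 2 ^ k ≠ 1 →
      ∀ w ∈ displ A, w ^ 2 ^ (k + 1) = 1 → w ∈ U := by
  classical
  intro k
  induction k with
  | zero =>
    intro u hu huU hφu hu1 w hw hw2
    rw [pow_zero, pow_one] at hu1
    rw [zero_add, pow_one] at hw2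
    obtain ⟨n, hn⟩ := h.sys.pg u
    have hex : ∃ i, u ^ 2 ^ i = 1 := ⟨n, hn⟩
    rcases hm : Nat.find hex with _ | i
    · have := Nat.find_spec hex
      rw [hm, pow_zero, pow_one] at this
      exact absurd this hu1
    set e := u ^ 2 ^ i with he
    have he1 : e ≠ 1 := Nat.find_min hex (by omega)
    have he2 : e ^ 2 = 1 := by
      rw [he, ← pow_mul, ← pow_succ, ← hm]; exact Nat.find_spec hex
    have heo : e ∈ omega h.comm := ⟨(displ A).pow_mem hu _, he2⟩
    have hfo : φ e ∈ omega h.comm := ⟨displ_inv hφ heo.1, by rw [← map_pow, he2, map_one]⟩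
    have hf1 : φ e ≠ 1 := fun hh => he1 ((map_eq_one_iff φ φ.injective).1 hh)
    have hef : e * φ e ≠ 1 := fun hh => hmove e heo he1 (by
      rw [eq_inv_of_mul_eq_one_right hh, inv_eq_of_mul_eq_one_right (by rw [← pow_two, he2])])
    have heU : e ∈ U := U.pow_mem huU _
    have hfU : φ e ∈ U := by rw [he, map_pow]; exact U.pow_mem hφu _
    rcases eq_of_card_four hcard heo hfo he1 hf1 (Ne.symm (hmove e heo he1)) hef (⟨hw, hw2⟩ : w ∈ omega h.comm)
      with rfl | rfl | rfl | rfl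
    exacts [U.one_mem, heU, hfU, U.mul_mem heU hfU]
  | succ k ih =>
    intro u hu huU hφu hu1 w hw hw2
    -- replace `u` by a power of exact level `k + 1`
    obtain ⟨n, hn⟩ := h.sys.pg u
    have hex : ∃ i, (u ^ 2 ^ (k + 1)) ^ 2 ^ i = 1 := ⟨n, by rw [← pow_mul, mul_comm, pow_mul, hn, one_pow]⟩
    rcases hm : Nat.find hex with _ | i
    · have := Nat.find_spec hex
      rw [hm, pow_zero, pow_one] at this
      exact absurd this hu1
    set p := u ^ 2 ^ i with hp
    have hp1 : p ^ 2 ^ (k + 1) ≠ 1 := by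
      rw [hp, ← pow_mul, mul_comm, pow_mul]; exact Nat.find_min hex (by omega)
    have hp2 : (p ^ 2 ^ (k + 1)) ^ 2 = 1 := by
      have h1 := Nat.find_spec hex
      rw [hm, pow_succ 2 i, pow_mul (u ^ 2 ^ (k + 1))] at h1
      rw [hp, ← pow_mul u, mul_comm, pow_mul u]
      exact h1
    have hpX : p ∈ displ A := (displ A).pow_mem hu _
    have hpU : p ∈ U := U.pow_mem huU _
    have hqU : φ p ∈ U := by rw [hp, map_pow]; exact U.pow_mem hφu _
    have hqX : φ p ∈ displ A := displ_inv hφ hpX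
    set e := p ^ 2 ^ (k + 1) with he
    have heo : e ∈ omega h.comm := ⟨(displ A).pow_mem hpX _, hp2⟩
    have hfo : φ e ∈ omega h.comm := ⟨displ_inv hφ heo.1, by rw [← map_pow, hp2, map_one]⟩
    have hf1 : φ e ≠ 1 := fun hh => hp1 ((map_eq_one_iff φ φ.injective).1 hh)
    have hef : e * φ e ≠ 1 := fun hh => hmove e heo hp1 (by
      rw [eq_inv_of_mul_eq_one_right hh, inv_eq_of_mul_eq_one_right (by rw [← pow_two, hp2])])
    have hwo : w ^ 2 ^ (k + 1) ∈ omega h.comm :=
      ⟨(displ A).pow_mem hw _, by rw [← pow_mul, ← pow_succ]; exact hw2⟩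
    obtain ⟨v, hv, hvU, hwv⟩ : ∃ v ∈ displ A, v ∈ U ∧ w ^ 2 ^ (k + 1) = v ^ 2 ^ (k + 1) := by
      rcases eq_of_card_four hcard heo hfo hp1 hf1 (Ne.symm (hmove e heo hp1)) hef hwo with h1 | h1 | h1 | h1
      · exact ⟨1, (displ A).one_mem, U.one_mem, by rw [h1, one_pow]⟩
      · exact ⟨p, hpX, hpU, h1⟩
      · exact ⟨φ p, hqX, hqU, by rw [h1, he, map_pow]⟩
      · exact ⟨p * φ p, (displ A).mul_mem hpX hqX, U.mul_mem hpU hqU, by
          rw [h1, (h.commute hpX hqX).mul_pow, he, map_pow]⟩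
    have hpk : p ^ 2 ^ k ≠ 1 := fun hh => hp1 (by rw [he, pow_succ, pow_mul, hh, one_pow])
    have h1 := ih p hpX hpU hqU hpk (w * v⁻¹) ((displ A).mul_mem hw ((displ A).inv_mem hv))
      (by rw [(h.commute hw ((displ A).inv_mem hv)).mul_pow, inv_pow, hwv, mul_inv_cancel])
    have := U.mul_mem h1 hvU
    rwa [inv_mul_cancel_right] at this

/-- Invariant subgroups of `[T, A]` form a chain. -/
theorem chain {φ : MulAut T} (hφ : φ ∈ A) (hmove : ∀ v ∈ omega h.comm, v ≠ 1 → φ v ≠ v)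
    (hcard : Nat.card (omega h.comm) = 4) {U V : Subgroup T} (hU : U ≤ displ A) (hV : V ≤ displ A)
    (hUi : ∀ u ∈ U, φ u ∈ U) (hVi : ∀ v ∈ V, φ v ∈ V) : U ≤ V ∨ V ≤ U := by
  classical
  by_contra hcon
  rw [not_or] at hcon
  obtain ⟨u, hu, huV⟩ := SetLike.not_le_iff_exists.1 hcon.1
  obtain ⟨v, hv, hvU⟩ := SetLike.not_le_iff_exists.1 hcon.2
  have hex : ∃ i, u ^ 2 ^ i = 1 := h.sys.pg u
  rcases hm : Nat.find hex with _ | k
  · have := Nat.find_spec hex
    rw [hm, pow_zero, pow_one] at this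
    exact huV (this ▸ V.one_mem)
  have hu1 : u ^ 2 ^ (k + 1) = 1 := hm ▸ Nat.find_spec hex
  have hu0 : u ^ 2 ^ k ≠ 1 := Nat.find_min hex (by omega)
  by_cases hv0 : v ^ 2 ^ k = 1
  · refine hvU (h.level hφ hmove hcard k u (hU hu) hu (hUi u hu) hu0 v (hV hv) ?_)
    rw [pow_succ, pow_mul, hv0, one_pow]
  · exact huV (h.level hφ hmove hcard k v (hV hv) hv (hVi v hv) hv0 u (hU hu) hu1)

/-- The involutions of `[T, A]` are central in `T`. -/
theorem omega_central : ∀ v ∈ omega h.comm, ∀ t : T, t * v = v * t := by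
  obtain ⟨φ, hφ, hmove, hcard⟩ := h.exists_phi
  have hbot : omega h.comm ≠ ⊥ := fun e => by rw [e, Subgroup.card_bot] at hcard; omega
  obtain ⟨z, hz, hz1, hzc⟩ := h.sys.exists_central_mod (N := ⊥) inferInstance h.omega_normal bot_le hbot
  have hzc' : ∀ t : T, t * z = z * t := fun t =>
    commutatorElement_eq_one_iff_mul_comm.1 (Subgroup.mem_bot.1 (hzc t))
  have hz1' : z ≠ 1 := fun e => hz1 (e ▸ Subgroup.one_mem _)
  have hzf : φ z ∈ omega h.comm := ⟨displ_inv hφ hz.1, by rw [← map_pow, hz.2, map_one]⟩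
  have hfc : ∀ t : T, t * φ z = φ z * t := fun t => by
    rw [show t = φ (φ⁻¹ t) from (MulAut.apply_inv_self T φ t).symm, ← map_mul, ← map_mul, hzc']
  have hne : z * φ z ≠ 1 := fun hh => hmove z hz hz1' (by
    rw [eq_inv_of_mul_eq_one_right hh, inv_eq_of_mul_eq_one_right (by rw [← pow_two, hz.2])])
  intro v hv t
  rcases eq_of_card_four hcard hz hzf hz1' (fun e => hz1' ((map_eq_one_iff φ φ.injective).1 e))
    (Ne.symm (hmove z hz hz1')) hne hv with rfl | rfl | rfl | rfl
  · simp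
  · exact hzc' t
  · exact hfc t
  · exact ((show Commute t z from hzc' t).mul_right (hfc t)).eq

/-- Fixed elements act faithfully on the squares of `[T, A]`. -/
theorem fixed_faithful {c : T} (hc : c ∈ fixedSub A)
    (hk : ∀ x ∈ displ A, c * x ^ 2 * c⁻¹ = x ^ 2) : c = 1 := by
  classical
  haveI : Fact (Nat.Prime 2) := ⟨Nat.prime_two⟩
  by_contra hc1
  obtain ⟨φ, hφ, hmove, hcard⟩ := h.exists_phi
  let C := fixedSub A
  let K : Subgroup C :=
    { carrier := {d | ∀ x ∈ displ A, (d : T) * x ^ 2 * (d : T)⁻¹ = x ^ 2}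
      one_mem' := fun x _ => by simp
      mul_mem' := fun {a b} ha hb x hx => by
        calc ((a * b : C) : T) * x ^ 2 * ((a * b : C) : T)⁻¹
            = a * ((b : T) * x ^ 2 * (b : T)⁻¹) * (a : T)⁻¹ := by rw [Subgroup.coe_mul]; group
          _ = x ^ 2 := by rw [hb x hx, ha x hx]
      inv_mem' := fun {a} ha x hx => by
        rw [Subgroup.coe_inv]
        calc (a : T)⁻¹ * x ^ 2 * ((a : T)⁻¹)⁻¹
            = (a : T)⁻¹ * ((a : T) * x ^ 2 * (a : T)⁻¹) * a := by rw [ha x hx]; group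
          _ = x ^ 2 := by group }
  have hKn : K.Normal := ⟨fun d hd g x hx => by
    have h1 := hd _ ((displ_normal (A := A)).conj_mem x hx (g : T)⁻¹)
    rw [Subgroup.coe_mul, Subgroup.coe_mul, Subgroup.coe_inv]
    calc (g : T) * d * (g : T)⁻¹ * x ^ 2 * ((g : T) * d * (g : T)⁻¹)⁻¹
        = g * ((d : T) * ((g : T)⁻¹ * x * (g : T)⁻¹⁻¹) ^ 2 * (d : T)⁻¹) * (g : T)⁻¹ := by
          rw [conj_pow]; group
      _ = x ^ 2 := by rw [h1, conj_pow]; group⟩
  have hKne : K ≠ ⊥ := fun e => hc1 (congrArg Subtype.val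
    (Subgroup.mem_bot.1 (e.le (show (⟨c, hc⟩ : C) ∈ K from hk))))
  obtain ⟨q, ⟨hqK, hqZ⟩, hq1⟩ := (Subgroup.bot_or_exists_ne_one _).resolve_left
    (PGroups.normal_inf_center_ne_bot (h.sys.pg.to_subgroup C) K hKne)
  -- an involution power
  obtain ⟨n, hn⟩ := h.sys.pg.to_subgroup C q
  have hex : ∃ i, q ^ 2 ^ i = 1 := ⟨n, hn⟩
  rcases hm : Nat.find hex with _ | i
  · have := Nat.find_spec hex
    rw [hm, pow_zero, pow_one] at this
    exact hq1 this
  set d : C := q ^ 2 ^ i with hd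
  have hd1 : d ≠ 1 := Nat.find_min hex (by omega)
  have hd2 : (d : T) ^ 2 = 1 := by
    rw [← Subgroup.coe_pow, hd, ← pow_mul, ← pow_succ, ← hm, Nat.find_spec hex, Subgroup.coe_one]
  have hdK : d ∈ K := K.pow_mem hqK _
  have hdZ : d ∈ Subgroup.center C := Subgroup.pow_mem _ hqZ _
  have hdX : (d : T) ∉ displ A := fun hm => hd1 (Subtype.ext (h.fixed_eq_one hm d.2))
  have hΩ := h.omega_central
  obtain ⟨hcm, h2⟩ := closure_elemAb (S := insert (d : T) (omega h.comm : Set T))
    (by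
      rintro a (rfl | ha) b (rfl | hb)
      · rfl
      · exact hΩ b hb _
      · exact (hΩ a ha _).symm
      · exact h.comm a ha.1 b hb.1)
    (by rintro a (rfl | ha); exacts [hd2, ha.2])
  set F := Subgroup.closure (insert (d : T) (omega h.comm : Set T)) with hF
  have hΩF : omega h.comm ≤ F := fun v hv => Subgroup.subset_closure (Or.inr hv)
  have hdcomm : ∀ t : T, ⁅t, (d : T)⁆ ∈ omega h.comm := by
    intro t
    obtain ⟨g, hg, x, hx, rfl⟩ := h.sys.decompose t
    have hgd : g * d = d * g := congrArg Subtype.val (Subgroup.mem_center_iff.1 hdZ ⟨g, hg⟩)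
    have hdx : ⁅x, (d : T)⁆ ∈ omega h.comm := by
      have hX := displ_normal (A := A)
      have hdx' : (d : T) * x * (d : T)⁻¹ ∈ displ A := hX.conj_mem x hx _
      refine ⟨by rw [show ⁅x, (d : T)⁆ = x * ((d : T) * x⁻¹ * (d : T)⁻¹) by
        rw [commutatorElement_def]; group]
                 exact (displ A).mul_mem hx (hX.conj_mem _ ((displ A).inv_mem hx) _), ?_⟩
      rw [show ⁅x, (d : T)⁆ = x * ((d : T) * x * (d : T)⁻¹)⁻¹ by rw [commutatorElement_def]; group,
        (h.commute hx ((displ A).inv_mem hdx')).mul_pow, inv_pow, conj_pow, hdK x hx, mul_inv_cancel]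
    rw [show ⁅g * x, (d : T)⁆ = g * ⁅x, (d : T)⁆ * g⁻¹ * ⁅g, (d : T)⁆ by
      simp only [commutatorElement_def]; group, commutatorElement_eq_one_iff_mul_comm.2 hgd,
      mul_one, hΩ _ hdx g, mul_inv_cancel_right]
    exact hdx
  have hFn : F.Normal := normal_of_commutator_mem fun t w hw => hΩF <| by
    induction hw using Subgroup.closure_induction with
    | mem u hu =>
      rcases hu with rfl | hu
      · exact hdcomm t
      · rw [commutatorElement_eq_one_iff_mul_comm.2 (hΩ u hu t)]; exact Subgroup.one_mem _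
    | one => simp
    | mul a b _ _ iha ihb =>
      rw [show ⁅t, a * b⁆ = ⁅t, a⁆ * (a * ⁅t, b⁆ * a⁻¹) by
        simp only [commutatorElement_def]; group, hΩ _ ihb a, mul_inv_cancel_right]
      exact Subgroup.mul_mem _ iha ihb
    | inv a _ iha =>
      rw [show ⁅t, a⁻¹⁆ = a⁻¹ * ⁅t, a⁆⁻¹ * a by simp only [commutatorElement_def]; group,
        hΩ _ (Subgroup.inv_mem _ iha) a⁻¹, inv_mul_cancel_right]
      exact Subgroup.inv_mem _ iha
  have := (Subgroup.eq_of_le_of_card_ge hΩF ((h.sys.small F hFn hcm h2).trans hcard.ge)).ge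
    (Subgroup.subset_closure (Set.mem_insert (d : T) _))
  exact hdX this.1

/-- A fixed involution inverts all squares of `[T, A]`. -/
theorem fixed_inverts {c : T} (hc : c ∈ fixedSub A) (hcc : c * c = 1) (hc1 : c ≠ 1) :
    ∀ x ∈ displ A, c * x ^ 2 * c⁻¹ = (x ^ 2)⁻¹ := by
  obtain ⟨φ, hφ, hmove, hcard⟩ := h.exists_phi
  have hX := displ_normal (A := A)
  let P : Subgroup T :=
    { carrier := {x | x ∈ displ A ∧ c * x * c⁻¹ = x}
      one_mem' := ⟨(displ A).one_mem, by simp⟩
      mul_mem' := fun {a b} ha hb => ⟨(displ A).mul_mem ha.1 hb.1, by rw [← conj_mul, ha.2, hb.2]⟩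
      inv_mem' := fun {a} ha => ⟨(displ A).inv_mem ha.1, by rw [← conj_inv, ha.2]⟩ }
  let N : Subgroup T :=
    { carrier := {x | x ∈ displ A ∧ c * x * c⁻¹ = x⁻¹}
      one_mem' := ⟨(displ A).one_mem, by simp⟩
      mul_mem' := fun {a b} ha hb => ⟨(displ A).mul_mem ha.1 hb.1, by
        rw [← conj_mul, ha.2, hb.2, ← mul_inv_rev, h.comm a ha.1 b hb.1]⟩
      inv_mem' := fun {a} ha => ⟨(displ A).inv_mem ha.1, by rw [← conj_inv, ha.2]⟩ }
  have hP : P ≤ displ A := fun _ hx => hx.1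
  have hN : N ≤ displ A := fun _ hx => hx.1
  intro x hx
  set y := c * x * c⁻¹ with hy
  have hyX : y ∈ displ A := hX.conj_mem x hx c
  have hcy : c * y * c⁻¹ = x := by
    rw [hy, show c * (c * x * c⁻¹) * c⁻¹ = c * c * x * (c * c)⁻¹ by group, hcc]; simp
  have hs : x * y ∈ P := ⟨(displ A).mul_mem hx hyX, by rw [← conj_mul, hcy, ← hy, h.comm y hyX x hx]⟩
  have hn : x * y⁻¹ ∈ N := ⟨(displ A).mul_mem hx ((displ A).inv_mem hyX), by
    rw [← conj_mul, ← conj_inv, hcy, ← hy, mul_inv_rev, inv_inv]⟩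
  have hx2 : x ^ 2 = x * y * (x * y⁻¹) := by
    rw [show x * y * (x * y⁻¹) = x * (y * x) * y⁻¹ by group, h.comm y hyX x hx, pow_two,
      ← mul_assoc, mul_inv_cancel_right]
  rcases h.chain hφ hmove hcard hP hN
    (fun u hu => ⟨displ_inv hφ hu.1, by rw [← map_conj_fixed hφ hc, hu.2]⟩)
    (fun u hu => ⟨displ_inv hφ hu.1, by rw [← map_conj_fixed hφ hc, hu.2, map_inv]⟩) with hle | hle
  · rw [hx2]; exact (N.mul_mem (hle hs) hn).2
  · refine absurd (h.fixed_faithful hc fun u hu => ?_) hc1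
    set v := c * u * c⁻¹ with hv
    have hvX : v ∈ displ A := hX.conj_mem u hu c
    have hcv : c * v * c⁻¹ = u := by
      rw [hv, show c * (c * u * c⁻¹) * c⁻¹ = c * c * u * (c * c)⁻¹ by group, hcc]; simp
    have hs' : u * v ∈ P := ⟨(displ A).mul_mem hu hvX, by rw [← conj_mul, hcv, ← hv, h.comm v hvX u hu]⟩
    have hn' : u * v⁻¹ ∈ N := ⟨(displ A).mul_mem hu ((displ A).inv_mem hvX), by
      rw [← conj_mul, ← conj_inv, hcv, ← hv, mul_inv_rev, inv_inv]⟩
    have hu2 : u ^ 2 = u * v * (u * v⁻¹) := by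
      rw [show u * v * (u * v⁻¹) = u * (v * u) * v⁻¹ by group, h.comm v hvX u hu, pow_two,
        ← mul_assoc, mul_inv_cancel_right]
    rw [hu2]
    exact (P.mul_mem hs' (hle hn')).2

/-- The outcome for an abelian `[T, A]`. -/
theorem cases_abelian : Nat.card T = 4 ∨
    (∃ m, 2 ≤ m ∧ Nonempty (T ≃* Multiplicative (ZMod (2 ^ m) × ZMod (2 ^ m)))) ∨
    ∃ c, Inverted (displ A) c := by
  classical
  obtain ⟨φ, hφ, hmove, hcard⟩ := h.exists_phi
  have hΩ := h.omega_central
  haveI : Fact (Nat.Prime 2) := ⟨Nat.prime_two⟩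
  obtain ⟨k, hk⟩ := IsPGroup.iff_card.1 h.sys.pg
  have hex : ∃ m, ∀ x ∈ displ A, x ^ 2 ^ m = 1 := ⟨k, fun x _ => by rw [← hk, pow_card_eq_one']⟩
  set m := Nat.find hex with hm
  have hmax : ∀ x ∈ displ A, x ^ 2 ^ m = 1 := Nat.find_spec hex
  by_cases hm1 : m ≤ 1
  · -- elementary
    left
    have h2 : ∀ x ∈ displ A, x ^ 2 = 1 := fun x hx => by
      have := hmax x hx
      interval_cases m
      · rw [pow_zero, pow_one] at this; rw [this, one_pow]
      · simpa using this
    have hC : ∀ t : T, t ∈ displ A := fun t => by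
      obtain ⟨c, hc, x, hx, rfl⟩ := h.sys.decompose t
      rw [h.fixed_faithful hc fun u hu => by rw [h2 u hu]; simp, one_mul]
      exact hx
    rw [← hcard]
    exact (Nat.card_congr ((Equiv.subtypeUnivEquiv fun t : T =>
      show t ∈ omega h.comm from ⟨hC t, h2 t (hC t)⟩))).symm
  right
  obtain ⟨x₀, hx₀, hx₀m⟩ : ∃ x ∈ displ A, x ^ 2 ^ (m - 1) ≠ 1 := by
    have := Nat.find_min hex (m := m - 1) (by omega)
    push Not at this
    exact this
  by_cases hC : ∀ c ∈ fixedSub A, c = 1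
  · -- `T = [T, A]` is homocyclic
    left
    have htop : ∀ t : T, t ∈ displ A := fun t => by
      obtain ⟨c, hc, x, hx, rfl⟩ := h.sys.decompose t
      rwa [hC c hc, one_mul]
    refine ⟨m, by omega, ?_⟩
    letI : CommGroup T := { (inferInstance : Group T) with
      mul_comm := fun a b => h.comm a (htop a) b (htop b) }
    set n := 2 ^ m with hn
    have hpx : x₀ ^ n = 1 := hmax _ (htop _)
    let lift : T → ZMod n →+ Additive T := fun g => ZMod.lift n
      ⟨(zmultiplesHom (Additive T)) (Additive.ofMul g), by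
        simp only [zmultiplesHom_apply, natCast_zsmul]
        rw [← ofMul_pow, hmax g (htop g)]; rfl⟩
    have hlift : ∀ (g : T) (i : ℤ), Additive.toMul (lift g (i : ZMod n)) = g ^ i := fun g i => by
      simp only [lift, ZMod.lift_coe, zmultiplesHom_apply, ← ofMul_zpow, toMul_ofMul]
    let f : Multiplicative (ZMod n × ZMod n) →* T :=
      AddMonoidHom.toMultiplicativeLeft ((lift x₀).coprod (lift (φ x₀)))
    have hf : ∀ i j : ℤ, f (Multiplicative.ofAdd ((i : ZMod n), (j : ZMod n))) = x₀ ^ i * φ x₀ ^ j := by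
      intro i j
      show Additive.toMul ((lift x₀).coprod (lift (φ x₀)) ((i : ZMod n), (j : ZMod n))) = _
      rw [AddMonoidHom.coprod_apply, toMul_add, hlift, hlift]
    have hsurj : Function.Surjective f := fun w => by
      have hmem : w ∈ f.range := by
        refine h.level hφ hmove hcard (U := f.range) (m - 1) x₀ (htop _) ⟨Multiplicative.ofAdd (((1 : ℤ) : ZMod n), ((0 : ℤ) : ZMod n)), ?_⟩
          ⟨Multiplicative.ofAdd (((0 : ℤ) : ZMod n), ((1 : ℤ) : ZMod n)), ?_⟩ hx₀m w (htop _) ?_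
        · rw [hf]; simp
        · rw [hf]; simp
        · rw [Nat.sub_add_cancel (by omega : 1 ≤ m)]; exact hmax w (htop _)
      exact hmem
    have hinj : Function.Injective f := by
      rw [injective_iff_map_eq_one]
      intro a ha
      obtain ⟨⟨i, hi⟩, ⟨j, hj⟩⟩ : (∃ i : ℤ, (i : ZMod n) = (Multiplicative.toAdd a).1) ∧
          (∃ j : ℤ, (j : ZMod n) = (Multiplicative.toAdd a).2) :=
        ⟨ZMod.intCast_surjective _, ZMod.intCast_surjective _⟩
      have ha' : x₀ ^ i * φ x₀ ^ j = 1 := by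
        rw [← hf, hi, hj]; exact ha
      -- all relations are divisible by `n`
      have key : ∀ l ≤ m, ∀ i j : ℤ, x₀ ^ i * φ x₀ ^ j = 1 → (2 : ℤ) ^ l ∣ i ∧ (2 : ℤ) ^ l ∣ j := by
        intro l hl
        induction l with
        | zero => intro i j _; simp
        | succ l ih =>
          intro i j hij
          obtain ⟨⟨a, rfl⟩, ⟨b, rfl⟩⟩ := ih (by omega) i j hij
          set p := x₀ ^ 2 ^ (m - 1) with hp
          have hpo : p ∈ omega h.comm := ⟨htop _, by
            rw [hp, ← pow_mul, ← pow_succ, Nat.sub_add_cancel (by omega : 1 ≤ m)]; exact hpx⟩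
          have h1 : p ^ a * φ p ^ b = 1 := by
            have := congrArg (· ^ (2 : ℤ) ^ (m - 1 - l)) hij
            simp only [mul_zpow, one_zpow, ← zpow_mul] at this
            rw [mul_comm ((2 : ℤ) ^ l) a, mul_comm ((2 : ℤ) ^ l) b, mul_assoc, mul_assoc, ← pow_add,
              show l + (m - 1 - l) = m - 1 by omega, mul_comm a, mul_comm b, zpow_mul, zpow_mul] at this
            rw [hp, map_pow]
            simpa [← zpow_natCast] using this
          have hp2 : p ^ (2 : ℤ) = 1 := by exact_mod_cast hpo.2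
          have hfp2 : φ p ^ (2 : ℤ) = 1 := by rw [← map_zpow, hp2, map_one]
          have hpne : φ p ≠ 1 := fun hh => hx₀m ((map_eq_one_iff φ φ.injective).1 hh)
          rw [pow_succ]
          rcases Int.even_or_odd a with ⟨a', rfl⟩ | ⟨a', rfl⟩ <;>
            rcases Int.even_or_odd b with ⟨b', rfl⟩ | ⟨b', rfl⟩
          · exact ⟨⟨a', by ring⟩, ⟨b', by ring⟩⟩
          · exfalso
            rw [← two_mul, zpow_mul, hp2, one_zpow, one_mul, zpow_add, zpow_mul, hfp2, one_zpow,
              one_mul, zpow_one] at h1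
            exact hpne h1
          · exfalso
            rw [← two_mul b', zpow_mul (φ p), hfp2, one_zpow, mul_one, zpow_add, zpow_mul, hp2,
              one_zpow, one_mul, zpow_one] at h1
            exact hx₀m h1
          · exfalso
            rw [zpow_add, zpow_mul, hp2, one_zpow, one_mul, zpow_one, zpow_add, zpow_mul, hfp2,
              one_zpow, one_mul, zpow_one] at h1
            refine hmove p hpo hx₀m ?_
            rw [eq_inv_of_mul_eq_one_right h1, inv_eq_of_mul_eq_one_right (by rw [← pow_two, hpo.2])]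
      obtain ⟨hdi, hdj⟩ := key m le_rfl i j ha'
      refine Multiplicative.toAdd.injective (Prod.ext ?_ ?_)
      · rw [← hi]; exact (ZMod.intCast_zmod_eq_zero_iff_dvd _ _).2 (by exact_mod_cast hdi)
      · rw [← hj]; exact (ZMod.intCast_zmod_eq_zero_iff_dvd _ _).2 (by exact_mod_cast hdj)
    exact ⟨(MulEquiv.ofBijective f ⟨hinj, hsurj⟩).symm⟩
  · right
    push Not at hC
    obtain ⟨c₀, hc₀, hc₀1⟩ := hC
    -- the exponent is at least eight
    have hm3 : 3 ≤ m := by
      by_contra hlt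
      refine hc₀1 (h.fixed_faithful hc₀ fun u hu => ?_)
      have h1 : u ^ 2 ∈ omega h.comm := ⟨(displ A).pow_mem hu 2, by
        have := hmax u hu
        rw [show m = 2 by omega] at this
        rwa [← pow_mul]⟩
      rw [hΩ _ h1 c₀, mul_inv_cancel_right]
    set x := x₀ ^ 2 ^ (m - 3) with hx
    have hxX : x ∈ displ A := (displ A).pow_mem hx₀ _
    have hx8 : x ^ 8 = 1 := by
      rw [hx, ← pow_mul, show (8 : ℕ) = 2 ^ 3 from rfl, ← pow_add, show m - 3 + 3 = m by omega]
      exact hmax _ hx₀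
    have hx4 : x ^ 4 ≠ 1 := by
      rw [hx, ← pow_mul, show (4 : ℕ) = 2 ^ 2 from rfl, ← pow_add, show m - 3 + 2 = m - 1 by omega]
      exact hx₀m
    have hsq : ∀ d ∈ fixedSub A, d * d = 1 := by
      intro d hd
      by_contra hd2
      obtain ⟨n, hn⟩ := h.sys.pg d
      have hex' : ∃ i, d ^ 2 ^ i = 1 := ⟨n, hn⟩
      rcases hl : Nat.find hex' with _ | _ | i
      · have := Nat.find_spec hex'
        rw [hl, pow_zero, pow_one] at this
        exact hd2 (by rw [this, one_mul])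
      · have := Nat.find_spec hex'
        rw [hl, zero_add, pow_one, pow_two] at this
        exact hd2 this
      set d' := d ^ 2 ^ i with hd'
      have hd'C : d' ∈ fixedSub A := (fixedSub A).pow_mem hd _
      set c := d' * d' with hc
      have hc1 : c ≠ 1 := by
        rw [hc, ← pow_two, hd', ← pow_mul, ← pow_succ]
        exact Nat.find_min hex' (by omega)
      have hcc : c * c = 1 := by
        rw [← pow_two, hc, ← pow_two, hd', ← pow_mul, ← pow_mul,
          show 2 ^ i * (2 * 2) = 2 ^ (i + 1 + 1) by ring, ← hl]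
        exact Nat.find_spec hex'
      have hinvx := h.fixed_inverts ((fixedSub A).mul_mem hd'C hd'C) hcc hc1 x hxX
      set w := x ^ 2 with hw
      have hwX : w ∈ displ A := (displ A).pow_mem hxX 2
      have hw2 : w ^ 2 ∈ omega h.comm := ⟨(displ A).pow_mem hwX 2, by
        rw [hw, ← pow_mul, ← pow_mul]; exact hx8⟩
      have hwd : d' * w * d'⁻¹ ∈ displ A := (displ_normal (A := A)).conj_mem w hwX d'
      set e := w⁻¹ * (d' * w * d'⁻¹) with he
      have heo : e ∈ omega h.comm := ⟨(displ A).mul_mem ((displ A).inv_mem hwX) hwd, by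
        rw [he, (h.commute ((displ A).inv_mem hwX) hwd).mul_pow, conj_pow, hΩ _ hw2 d',
          mul_inv_cancel_right, inv_pow, inv_mul_cancel]⟩
      have h2 : c * w * c⁻¹ = w := by
        calc c * w * c⁻¹ = d' * (w * e) * d'⁻¹ := by rw [he, hc]; group
          _ = (d' * w * d'⁻¹) * (d' * e * d'⁻¹) := by group
          _ = w * e * e := by rw [hΩ _ heo d', mul_inv_cancel_right, he, mul_inv_cancel_left]
          _ = w := by rw [mul_assoc, ← pow_two e, heo.2, mul_one]
      rw [h2] at hinvx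
      refine hx4 ?_
      rw [show x ^ 4 = w * w by rw [hw, ← pow_add]]
      exact eq_inv_iff_mul_eq_one.1 hinvx
    have hcinv := h.fixed_inverts hc₀ (hsq c₀ hc₀) hc₀1
    refine ⟨c₀, fun t => ?_, fun hm => hc₀1 (h.fixed_eq_one hm hc₀), hsq c₀ hc₀, h.comm, hcard,
      fun v hv hv2 => hΩ v ⟨hv, hv2⟩, hcinv, ?_⟩
    · obtain ⟨d, hd, y, hy, rfl⟩ := h.sys.decompose t
      by_cases hd1 : d = 1
      · left; rw [hd1, one_mul]; exact hy
      right
      have : c₀⁻¹ * d = 1 := h.fixed_faithful ((fixedSub A).mul_mem ((fixedSub A).inv_mem hc₀) hd)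
        fun u hu => by
          rw [mul_inv_rev, inv_inv,
            show c₀⁻¹ * d * u ^ 2 * (d⁻¹ * c₀) = c₀⁻¹ * (d * u ^ 2 * d⁻¹) * c₀ by group,
            h.fixed_inverts hd (hsq d hd) hd1 u hu, ← hcinv u hu]
          group
      rw [← mul_assoc, this, one_mul]
      exact hy
    · intro v hv hv2
      set e := x ^ 4 with he
      have heo : e ∈ omega h.comm := ⟨(displ A).pow_mem hxX _, by rw [he, ← pow_mul]; exact hx8⟩
      have hfo : φ e ∈ omega h.comm := ⟨displ_inv hφ heo.1, by rw [← map_pow, heo.2, map_one]⟩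
      have hne : e * φ e ≠ 1 := fun hh => hmove e heo hx4 (by
        rw [eq_inv_of_mul_eq_one_right hh, inv_eq_of_mul_eq_one_right (by rw [← pow_two, heo.2])])
      have h4 : ∀ y : T, (y ^ 2) ^ 2 = y ^ 4 := fun y => (pow_mul y 2 2).symm
      rcases eq_of_card_four hcard heo hfo hx4 (fun hh => hx4 ((map_eq_one_iff φ φ.injective).1 hh))
        (Ne.symm (hmove e heo hx4)) hne (⟨hv, hv2⟩ : v ∈ omega h.comm) with h1 | h1 | h1 | h1
      · exact ⟨1, (displ A).one_mem, by simp [h1]⟩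
      · exact ⟨x, hxX, by rw [h1, h4]⟩
      · exact ⟨φ x, displ_inv hφ hxX, by rw [h1, h4, he, map_pow φ x 4]⟩
      · exact ⟨x * φ x, (displ A).mul_mem hxX (displ_inv hφ hxX), by
          rw [h1, h4, (h.commute hxX (displ_inv hφ hxX)).mul_pow, he, map_pow φ x 4]⟩

end AbDispl

end Cfsg.Agent.Lib.NormRankTwoAuto23
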