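import Cfsg.Agent.Lib.TwoGroupOddAuto.Structure
import Cfsg.Agent.Lib.Coprime.Action

/-!
# A 2-group of normal rank two with an odd group of automorphisms: first facts

`displ A` is `[T, A]`, `fixedSub A` is `C_T(A)`.
-/

set_option autoImplicit false
set_option linter.unusedSectionVars false
set_option linter.style.haveILetI false

namespace Cfsg.Agent.Lib.NormRankTwoAuto23

open scoped commutatorElement
open Cfsg.Agent.Lib.NormalRankTwo (sqGen sqGen_le_iff)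

variable {T : Type*} [Group T]

/-- A 2-group of normal rank at most two and an odd group of automorphisms. -/
structure Sys (A : Subgroup (MulAut T)) : Prop where
  pg : IsPGroup 2 T
  small : ∀ B : Subgroup T, B.Normal → IsMulCommutative B → (∀ b ∈ B, b ^ 2 = 1) → Nat.card B ≤ 4
  odd : Odd (Nat.card A)

/-- `[T, A]`. -/
def displ (A : Subgroup (MulAut T)) : Subgroup T :=
  Subgroup.closure {g : T | ∃ φ ∈ A, ∃ x : T, g = x⁻¹ * φ x}

/-- `C_T(A)`. -/
def fixedSub (A : Subgroup (MulAut T)) : Subgroup T where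
  carrier := {t | ∀ φ ∈ A, φ t = t}
  one_mem' := fun φ _ => map_one φ
  mul_mem' := fun {a b} ha hb φ hφ => by rw [map_mul, ha φ hφ, hb φ hφ]
  inv_mem' := fun {a} ha φ hφ => by rw [map_inv, ha φ hφ]

variable {A : Subgroup (MulAut T)}

theorem mem_fixedSub {t : T} : t ∈ fixedSub A ↔ ∀ φ ∈ A, φ t = t := Iff.rfl

theorem displ_mem {φ : MulAut T} (hφ : φ ∈ A) (x : T) : x⁻¹ * φ x ∈ displ A :=
  Subgroup.subset_closure ⟨φ, hφ, x, rfl⟩

theorem displ_inv {ψ : MulAut T} (hψ : ψ ∈ A) {y : T} (hy : y ∈ displ A) : ψ y ∈ displ A := by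
  have h := (displ A).mul_mem hy (displ_mem hψ y)
  rwa [mul_inv_cancel_left] at h

theorem displ_normal : (displ A).Normal := by
  refine ⟨fun y hy g => ?_⟩
  induction hy using Subgroup.closure_induction with
  | mem z hz =>
    obtain ⟨φ, hφ, x, rfl⟩ := hz
    rw [show g * (x⁻¹ * φ x) * g⁻¹ =
      ((x * g⁻¹)⁻¹ * φ (x * g⁻¹)) * (g⁻¹⁻¹ * φ g⁻¹)⁻¹ by rw [map_mul]; group]
    exact (displ A).mul_mem (displ_mem hφ _) ((displ A).inv_mem (displ_mem hφ _))
  | one => simp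
  | mul a b _ _ iha ihb =>
    rw [show g * (a * b) * g⁻¹ = (g * a * g⁻¹) * (g * b * g⁻¹) by group]
    exact (displ A).mul_mem iha ihb
  | inv a _ iha =>
    rw [show g * a⁻¹ * g⁻¹ = (g * a * g⁻¹)⁻¹ by group]
    exact (displ A).inv_mem iha

/-- Conjugation by a fixed element commutes with `A`. -/
theorem map_conj_fixed {φ : MulAut T} (hφ : φ ∈ A) {c : T} (hc : c ∈ fixedSub A) (y : T) :
    φ (c * y * c⁻¹) = c * φ y * c⁻¹ := by
  rw [map_mul, map_mul, map_inv, hc φ hφ]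

theorem map_commutator_fixed {φ : MulAut T} (hφ : φ ∈ A) {c : T} (hc : c ∈ fixedSub A) (y : T) :
    φ ⁅c, y⁆ = ⁅c, φ y⁆ := by
  rw [map_commutatorElement, hc φ hφ]

theorem conj_eq_commutator_mul (g x : T) : g * x * g⁻¹ = ⁅g, x⁆ * x := by
  rw [commutatorElement_def]; group

/-- A subgroup with `[g, N] ≤ N` for all `g` is normal. -/
theorem normal_of_commutator_mem {N : Subgroup T} (h : ∀ g : T, ∀ x ∈ N, ⁅g, x⁆ ∈ N) : N.Normal :=
  ⟨fun x hx g => by rw [conj_eq_commutator_mul]; exact N.mul_mem (h g x hx) hx⟩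

theorem commutator_mem_of_normal {N : Subgroup T} (hN : N.Normal) (g : T) {x : T} (hx : x ∈ N) :
    ⁅g, x⁆ ∈ N := by
  rw [commutatorElement_def]; exact N.mul_mem (hN.conj_mem x hx g) (N.inv_mem hx)

theorem commutator_mem_symm {N : Subgroup T} {a b : T} (h : ⁅a, b⁆ ∈ N) : ⁅b, a⁆ ∈ N := by
  rw [← commutatorElement_inv]; exact N.inv_mem h

namespace Sys

variable [Finite T] (h : Sys A)
include h

theorem finite_A : Finite A := Nat.finite_of_card_ne_zero h.odd.pos.ne'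

theorem exists_card {N W : Subgroup T} (hNW : N ≤ W) : ∃ k, Nat.card W = 2 ^ k * Nat.card N := by
  haveI : Fact (Nat.Prime 2) := ⟨Nat.prime_two⟩
  obtain ⟨a, ha⟩ := IsPGroup.iff_card.mp (h.pg.to_subgroup W)
  obtain ⟨b, hb⟩ := IsPGroup.iff_card.mp (h.pg.to_subgroup N)
  have hd := Subgroup.card_dvd_of_le hNW
  rw [ha, hb, Nat.pow_dvd_pow_iff_le_right (by norm_num)] at hd
  exact ⟨a - b, by rw [ha, hb, ← pow_add, Nat.sub_add_cancel hd]⟩

theorem coprime_card (N : Subgroup T) : (Nat.card A).Coprime (Nat.card N) := by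
  haveI : Fact (Nat.Prime 2) := ⟨Nat.prime_two⟩
  obtain ⟨b, hb⟩ := IsPGroup.iff_card.mp (h.pg.to_subgroup N)
  rw [hb]
  exact (Nat.coprime_two_right.2 h.odd).pow_right b

/-- A fixed coset of an invariant subgroup contains a fixed point. -/
theorem exists_fixed {N : Subgroup T} (hN : ∀ φ ∈ A, ∀ x ∈ N, φ x ∈ N) {g : T}
    (hg : ∀ φ ∈ A, g⁻¹ * φ g ∈ N) : ∃ n ∈ N, g * n ∈ fixedSub A := by
  haveI := h.finite_A
  haveI : Fact (Nat.Prime 2) := ⟨Nat.prime_two⟩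
  haveI : Group.IsNilpotent N := (h.pg.to_subgroup N).isNilpotent
  obtain ⟨n, hn, hfix⟩ := Coprime.Action.exists_mul_fixed (A := A) (G := T) (N := N)
    (fun a x hx => hN a a.2 x hx) (h.coprime_card N) (Or.inr inferInstance) (g := g)
    (fun a => hg a a.2)
  exact ⟨n, hn, fun φ hφ => hfix ⟨φ, hφ⟩⟩

/-- `T = C_T(A) [T, A]`. -/
theorem decompose (t : T) : ∃ c ∈ fixedSub A, ∃ x ∈ displ A, t = c * x := by
  obtain ⟨n, hn, hf⟩ := h.exists_fixed (fun φ hφ x hx => displ_inv hφ hx)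
    (fun φ hφ => displ_mem hφ t)
  exact ⟨t * n, hf, n⁻¹, (displ A).inv_mem hn, by group⟩

/-- `[T, A]` lies in any subgroup containing the displacements of its own elements. -/
theorem displ_le {K : Subgroup T} (hK : ∀ φ ∈ A, ∀ x ∈ displ A, x⁻¹ * φ x ∈ K) : displ A ≤ K := by
  rw [displ, Subgroup.closure_le]
  rintro _ ⟨φ, hφ, t, rfl⟩
  obtain ⟨c, hc, x, hx, rfl⟩ := h.decompose t
  rw [map_mul, hc φ hφ, show (c * x)⁻¹ * (c * φ x) = x⁻¹ * φ x by group]
  exact hK φ hφ x hx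

/-- An `A`-invariant homomorphism on `[T, A]` is trivial. -/
theorem hom_trivial {Q : Type*} [Group Q] (f : displ A →* Q)
    (hf : ∀ φ ∈ A, ∀ (x : displ A) (hx : φ x ∈ displ A), f ⟨φ x, hx⟩ = f x) (x : displ A) :
    f x = 1 := by
  have hle : displ A ≤ f.ker.map (displ A).subtype := h.displ_le fun φ hφ y hy => by
    refine ⟨(⟨y, hy⟩ : displ A)⁻¹ * ⟨φ y, displ_inv hφ hy⟩, ?_, rfl⟩
    show f _ = 1
    rw [map_mul, hf φ hφ ⟨y, hy⟩, map_inv, inv_mul_cancel]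
  obtain ⟨y, hy, hyx⟩ := hle x.2
  rw [← Subtype.ext hyx]
  exact hy

/-- A nonempty normal layer has an element central in it. -/
theorem exists_central_mod {N W : Subgroup T} (hN : N.Normal) (hW : W.Normal) (hNW : N ≤ W)
    (hne : W ≠ N) : ∃ w ∈ W, w ∉ N ∧ ∀ t : T, ⁅t, w⁆ ∈ N := by
  haveI : Fact (Nat.Prime 2) := ⟨Nat.prime_two⟩
  haveI := hN
  haveI : (W.map (QuotientGroup.mk' N)).Normal :=
    hW.map _ (QuotientGroup.mk'_surjective N)
  have hbot : W.map (QuotientGroup.mk' N) ≠ ⊥ := by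
    rw [Ne, Subgroup.map_eq_bot_iff, QuotientGroup.ker_mk']
    exact fun hle => hne (le_antisymm hle hNW)
  obtain ⟨q, ⟨⟨w, hw, rfl⟩, hqc⟩, hq1⟩ := (Subgroup.bot_or_exists_ne_one _).resolve_left
    (PGroups.normal_inf_center_ne_bot (h.pg.to_quotient N) _ hbot)
  refine ⟨w, hw, fun hwN => hq1 ((QuotientGroup.eq_one_iff w).2 hwN), fun t => ?_⟩
  rw [← QuotientGroup.eq_one_iff]
  show QuotientGroup.mk' N ⁅t, w⁆ = 1
  rw [map_commutatorElement, commutatorElement_eq_one_iff_mul_comm]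
  exact Subgroup.mem_center_iff.1 hqc _

/-- In a layer of index two all nontrivial cosets agree. -/
theorem mem_of_card_two {N V : Subgroup T} (hNV : N ≤ V) (hc : Nat.card V = 2 * Nat.card N)
    {v w : T} (hv : v ∈ V) (hw : w ∈ V) (hvN : v ∉ N) (hwN : w ∉ N) : v⁻¹ * w ∈ N := by
  have hi : (N.subgroupOf V).index = 2 := by
    have := Subgroup.relIndex_mul_index (H := N) (K := V) hNV
    have h1 := Subgroup.card_mul_index (N.subgroupOf V)
    rw [Nat.card_congr (Subgroup.subgroupOfEquivOfLe hNV).toEquiv, hc, mul_comm 2] at h1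
    exact Nat.eq_of_mul_eq_mul_left Nat.card_pos h1
  have hmem : (⟨v, hv⟩ : V)⁻¹ * ⟨w, hw⟩ ∈ N.subgroupOf V := by
    rw [Subgroup.mul_mem_iff_of_index_two hi, Subgroup.inv_mem_iff]
    exact iff_of_false (fun e => hvN e) (fun e => hwN e)
  exact hmem

/-- An invariant layer of index two is fixed. -/
theorem fixed_of_card_two {N V : Subgroup T} (hNV : N ≤ V) (hc : Nat.card V = 2 * Nat.card N)
    (hNi : ∀ φ ∈ A, ∀ x ∈ N, φ x ∈ N) (hVi : ∀ φ ∈ A, ∀ x ∈ V, φ x ∈ V) {v : T} (hv : v ∈ V)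
    {φ : MulAut T} (hφ : φ ∈ A) : v⁻¹ * φ v ∈ N := by
  by_cases hvN : v ∈ N
  · exact N.mul_mem (N.inv_mem hvN) (hNi φ hφ v hvN)
  · refine h.mem_of_card_two hNV hc hv (hVi φ hφ v hv) hvN fun hm => hvN ?_
    have := hNi φ⁻¹ (A.inv_mem hφ) _ hm
    rwa [MulAut.inv_apply_self] at this

/-- MacWilliams: a subgroup with squares in `N` has order at most `16 |N|`. -/
theorem card_le_of_sq {H N : Subgroup T} (hsq : ∀ x ∈ H, x ^ 2 ∈ N) :
    Nat.card H ≤ 16 * Nat.card N := by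
  obtain ⟨M, hM⟩ := NormalRankTwo.exists_hyp h.pg h.small
  exact (hM.bound H).trans (Nat.mul_le_mul_left _ (Subgroup.card_le_of_le (sqGen_le_iff.2 hsq)))

/-- The norm of an element in an abelian section. -/
theorem exists_proj {N Y : Subgroup T} (hN : N.Normal)
    (hYi : ∀ φ ∈ A, ∀ x ∈ Y, φ x ∈ Y) (hcomm : ∀ a ∈ Y, ∀ b ∈ Y, ⁅a, b⁆ ∈ N) :
    ∃ f : Y →* T ⧸ N, (∀ φ ∈ A, ∀ (y : Y) (hy : φ y ∈ Y), f ⟨φ y, hy⟩ = f y) ∧
      (∀ y : Y, (∀ φ ∈ A, (y : T)⁻¹ * φ y ∈ N) → f y = 1 → (y : T) ∈ N) ∧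
      ∀ y : Y, (∀ φ ∈ A, φ (y : T) ∈ N) → f y = 1 := by
  classical
  haveI := hN
  haveI := h.finite_A
  have : Fintype A := Fintype.ofFinite A
  let Q : Subgroup (T ⧸ N) := Y.map (QuotientGroup.mk' N)
  have hQc : ∀ a ∈ Q, ∀ b ∈ Q, a * b = b * a := by
    rintro _ ⟨a, ha, rfl⟩ _ ⟨b, hb, rfl⟩
    rw [← commutatorElement_eq_one_iff_mul_comm, ← map_commutatorElement]
    exact (QuotientGroup.eq_one_iff _).2 (hcomm a ha b hb)
  letI : CommGroup Q := { (inferInstance : Group Q) with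
    mul_comm := fun a b => Subtype.ext (hQc _ a.2 _ b.2) }
  let term : A → Y → Q := fun ψ y => ⟨QuotientGroup.mk' N (ψ.1 y), _, hYi ψ.1 ψ.2 y y.2, rfl⟩
  let g : Y →* Q :=
    { toFun := fun y => ∏ ψ : A, term ψ y
      map_one' := Finset.prod_eq_one fun ψ _ => Subtype.ext (by simp [term])
      map_mul' := fun y z => by
        rw [← Finset.prod_mul_distrib]
        exact Finset.prod_congr rfl fun ψ _ => Subtype.ext (by simp [term]) }
  refine ⟨Q.subtype.comp g, fun φ hφ y hy => congrArg Q.subtype ?_, fun y hy hy1 => ?_,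
    fun y hy => ?_⟩
  · show ∏ ψ : A, term ψ ⟨φ y, hy⟩ = ∏ ψ : A, term ψ y
    exact Fintype.prod_equiv (Equiv.mulRight (⟨φ, hφ⟩ : A)) _ _ fun ψ =>
      Subtype.ext (by simp [term, MulAut.mul_apply])
  · have h1 : g y = (⟨QuotientGroup.mk' N y, _, y.2, rfl⟩ : Q) ^ Nat.card A := by
      show ∏ ψ : A, term ψ y = _
      rw [Finset.prod_congr rfl fun ψ _ => show term ψ y = ⟨QuotientGroup.mk' N y, _, y.2, rfl⟩ from
          Subtype.ext (QuotientGroup.eq.2 (hy ψ.1 ψ.2)).symm,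
        Finset.prod_const, Finset.card_univ, Nat.card_eq_fintype_card]
    have h2 : g y = 1 := Subtype.ext hy1
    rw [h2] at h1
    have h3 : ((y : T) : T ⧸ N) ^ Nat.card A = 1 := (congrArg Subtype.val h1).symm
    obtain ⟨k, hk⟩ := h.pg (y : T)
    have h4 : ((y : T) : T ⧸ N) ^ 2 ^ k = 1 := by rw [← QuotientGroup.mk_pow, hk, QuotientGroup.mk_one]
    have h5 := pow_gcd_eq_one.2 ⟨h3, h4⟩
    rw [((Nat.coprime_two_right.2 h.odd).pow_right k).gcd_eq_one, pow_one] at h5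
    exact (QuotientGroup.eq_one_iff _).1 h5
  · refine (congrArg Q.subtype (Finset.prod_eq_one fun ψ _ => Subtype.ext ?_)).trans (map_one _)
    exact (QuotientGroup.eq_one_iff _).2 (hy ψ.1 ψ.2)

/-- Modulo a normal subgroup containing its derived group, `[T, A]` has no fixed points. -/
theorem fpf_displ {N : Subgroup T} (hN : N.Normal)
    (hcomm : ∀ a ∈ displ A, ∀ b ∈ displ A, ⁅a, b⁆ ∈ N) {x : T} (hx : x ∈ displ A)
    (hfix : ∀ φ ∈ A, x⁻¹ * φ x ∈ N) : x ∈ N := by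
  haveI := hN
  obtain ⟨f, hf1, hf2, -⟩ := h.exists_proj hN (fun φ hφ y hy => displ_inv hφ hy) hcomm
  exact hf2 ⟨x, hx⟩ hfix (h.hom_trivial f hf1 _)

end Sys

end Cfsg.Agent.Lib.NormRankTwoAuto23
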