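import Cfsg.Agent.Lib.NormRankTwoAuto23.Singular

/-!
# The order of `T` is 64 or 128 when `[T, A] E = L` has order 64
-/

set_option autoImplicit false
set_option linter.unusedSectionVars false
set_option linter.style.haveILetI false

namespace Cfsg.Agent.Lib.NormRankTwoAuto23

open scoped commutatorElement
open Cfsg.Agent.Lib.TwoGroupOddAuto (eq_of_card_four)

variable {T : Type*} [Group T] [Finite T] {A : Subgroup (MulAut T)} {E : Subgroup T}

namespace Inv4

variable (h : Inv4 A E)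
include h

/-- The twist formula for a commutator with a square. -/
theorem twist {c f : T} (hyL : ⁅c, f⁆ ∈ h.L) (hf : f ∈ h.L) :
    ⁅c, f ^ 2⁆ = ⁅c, f⁆ ^ 2 * ⁅f, ⁅c, f⁆⁆ := by
  have h1 : c * f ^ 2 * c⁻¹ = ⁅c, f⁆ ^ 2 * f ^ 2 * ⁅f, ⁅c, f⁆⁆ := by
    rw [← conj_pow, conj_eq_commutator_mul,
      h.sq_mul' hyL.1 hf.1 (h.L_comm hf hyL)]
  rw [commutatorElement_def, h1, mul_assoc (⁅c, f⁆ ^ 2), h.comm _ hf.2.1 _ (h.L_comm hf hyL),
    ← mul_assoc (⁅c, f⁆ ^ 2), mul_inv_cancel_right]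

/-- Fixed elements trivial on `L / E` lie in `E`. -/
theorem kernel_le (hF : h.L ⊓ fixedSub A ≤ E) (hcard : Nat.card h.L = 64)
    {c : T} (hc : c ∈ fixedSub A) (hk : ∀ f ∈ h.L, ⁅c, f⁆ ∈ E) : c ∈ E := by
  classical
  by_contra hcE
  obtain ⟨k, hkk⟩ := h.sys.pg c
  have hex : ∃ i, c ^ 2 ^ i ∈ E := ⟨k, by rw [hkk]; exact E.one_mem⟩
  have hspec := Nat.find_spec hex
  rcases hn : Nat.find hex with _ | i
  · rw [hn, pow_zero, pow_one] at hspec
    exact hcE hspec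
  set d := c ^ 2 ^ i with hd
  have hdE : d ∉ E := Nat.find_min hex (by omega)
  have hd2 : d ^ 2 ∈ E := by rw [hd, ← pow_mul, ← pow_succ, ← hn]; exact hspec
  have hdC : d ∈ fixedSub A := (fixedSub A).pow_mem hc _
  have hdk : ∀ f ∈ h.L, ⁅d, f⁆ ∈ E := by
    have key : ∀ n : ℕ, ∀ f ∈ h.L, ⁅c ^ n, f⁆ ∈ E := by
      intro n
      induction n with
      | zero => intro f _; simp
      | succ n ih =>
        intro f hf
        rw [pow_succ', show ⁅c * c ^ n, f⁆ = c * ⁅c ^ n, f⁆ * c⁻¹ * ⁅c, f⁆ by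
          simp only [commutatorElement_def]; group]
        exact E.mul_mem (h.normal.conj_mem _ (ih f hf) c) (hk f hf)
    exact key _
  haveI := h.L_normal
  have hsq : ∀ u ∈ h.L ⊔ Subgroup.zpowers d, u ^ 2 ∈ E := by
    intro u hu
    obtain ⟨l, hl, w, hw, rfl⟩ := Subgroup.mem_sup_of_normal_left.1 hu
    obtain ⟨m, rfl⟩ := Subgroup.mem_zpowers_iff.1 hw
    have hw2 : (d ^ m) ^ 2 ∈ E := by
      rw [← zpow_natCast, ← zpow_mul, mul_comm, zpow_mul, zpow_natCast]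
      exact E.zpow_mem hd2 m
    have hcm : ⁅d ^ m, l⁆ ∈ E := by
      rcases Int.even_or_odd m with ⟨r, rfl⟩ | ⟨r, rfl⟩
      · have : d ^ (r + r) ∈ E := by
          rw [← two_mul, zpow_mul]; exact E.zpow_mem (by simpa using hd2) r
        exact commutator_mem_symm (commutator_mem_of_normal h.normal l this)
      · have hE' : d ^ (2 * r) ∈ E := by rw [zpow_mul]; exact E.zpow_mem (by simpa using hd2) r
        rw [zpow_add, zpow_one, show ⁅d ^ (2 * r) * d, l⁆ =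
          d ^ (2 * r) * ⁅d, l⁆ * (d ^ (2 * r))⁻¹ * ⁅d ^ (2 * r), l⁆ by
          simp only [commutatorElement_def]; group]
        exact E.mul_mem (h.normal.conj_mem _ (hdk l hl) _)
          (commutator_mem_symm (commutator_mem_of_normal h.normal l hE'))
    rw [show (l * d ^ m) ^ 2 = l * ⁅d ^ m, l⁆ * l⁻¹ * l ^ 2 * (d ^ m) ^ 2 by
      simp only [commutatorElement_def, pow_two]; group]
    exact E.mul_mem (E.mul_mem (h.normal.conj_mem _ hcm l) hl.2.1) hw2
  have hH := h.sys.card_le_of_sq hsq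
  rw [h.card] at hH
  have hle : Nat.card ↥(h.L ⊔ Subgroup.zpowers d) ≤ Nat.card h.L := by omega
  have hdL : d ∈ h.L := (Subgroup.eq_of_le_of_card_ge le_sup_left hle).ge
    (Subgroup.mem_sup_right (Subgroup.mem_zpowers d))
  exact hdE (hF ⟨hdL, hdC⟩)

/-- A fixed element outside `E` moves every element of `L` outside `W0` modulo `E`. -/
theorem comm_not_mem (hLY : h.Y = h.L) (hF : h.L ⊓ fixedSub A ≤ E) (hcard : Nat.card h.L = 64)
    (hW : Nat.card h.W0 = 16) {c : T} (hc : c ∈ fixedSub A) (hcE : c ∉ E) {f : T} (hf : f ∈ h.L)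
    (hfW : f ∉ h.W0) : ⁅c, f⁆ ∉ E := by
  intro hcf
  let U : Subgroup T :=
    { carrier := {g | g ∈ h.L ∧ ⁅c, g⁆ ∈ E}
      one_mem' := ⟨h.L.one_mem, by simp⟩
      mul_mem' := fun {a b} ha hb => ⟨h.L.mul_mem ha.1 hb.1, by
        rw [h.comm_mul_right ha.1.1 hb.2]; exact E.mul_mem ha.2 hb.2⟩
      inv_mem' := fun {a} ha => ⟨h.L.inv_mem ha.1, by
        rw [show ⁅c, a⁻¹⁆ = a⁻¹ * ⁅c, a⁆⁻¹ * a⁻¹⁻¹ by simp only [commutatorElement_def]; group]
        exact h.normal.conj_mem _ (E.inv_mem ha.2) _⟩ }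
  have hWU : h.W0 ≤ U := fun g hg => ⟨hg.1, hg.2 c⟩
  have hUL : U ≤ h.L := fun _ hg => hg.1
  have hUi : ∀ φ ∈ A, ∀ x ∈ U, φ x ∈ U := fun φ hφ x hx => ⟨h.L_inv hφ hx.1, by
    rw [← map_commutator_fixed hφ hc]; exact h.inv φ hφ _ hx.2⟩
  have hfU : f ∈ U := ⟨hf, hcf⟩
  obtain ⟨j, hj⟩ := h.sys.exists_card hWU
  have hle := Subgroup.card_le_of_le hUL
  rw [hcard] at hle
  have hUne : U ≠ h.W0 := fun e => hfW (e ▸ hfU)
  have hU : U = h.L := by
    refine Subgroup.eq_of_le_of_card_ge hUL ?_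
    rw [hcard, hj, hW]
    by_contra hlt
    have hj1 : j ≤ 1 := by
      by_contra hj2
      have : 2 ^ 2 ≤ 2 ^ j := Nat.pow_le_pow_right (by norm_num) (by omega)
      omega
    interval_cases j
    · rw [pow_zero, one_mul] at hj
      exact hUne (Subgroup.eq_of_le_of_card_ge hWU hj.le).symm
    · rw [pow_one] at hj
      obtain ⟨n, hn, hfix⟩ := h.sys.exists_fixed (fun φ hφ x hx => h.W0_inv hφ hx) (g := f)
        fun φ hφ => h.sys.fixed_of_card_two hWU hj (fun φ hφ x hx => h.W0_inv hφ hx) hUi hfU hφ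
      exact hfW ((h.W0.mul_mem_cancel_right hn).1
        (h.E_le_W0 (hF ⟨h.L.mul_mem hf hn.1, hfix⟩)))
  exact hcE (h.kernel_le hF hcard hc fun g hg => (hU.ge hg).2)

/-- Two fixed elements outside `E` agree modulo `E`. -/
theorem fixed_unique (hLY : h.Y = h.L) (hF : h.L ⊓ fixedSub A ≤ E) (hcard : Nat.card h.L = 64)
    {c d : T} (hc : c ∈ fixedSub A) (hd : d ∈ fixedSub A) (hcE : c ∉ E) (hdE : d ∉ E) :
    c⁻¹ * d ∈ E := by
  by_contra hcd
  haveI := h.normal
  -- `W0` is proper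
  have hne : ¬ h.L ≤ h.W0 := fun hle =>
    hcE (h.kernel_le hF hcard hc fun f hf => (hle hf).2 c)
  have hW : Nat.card h.W0 = 16 := by
    have := (h.layer_card h.L_normal (fun φ hφ x hx => h.L_inv hφ hx) h.E_le_L le_rfl
      (fun x hx hx' => hF ⟨hx, hx'⟩) hne).2
    rwa [inf_eq_right.2 h.W0_le_L] at this
  have hCC : ∀ {a : T}, a ∈ fixedSub A → ∀ {g : T}, g ∈ h.L → ⁅a, g⁆ ∈ h.W0 :=
    fun ha _ hg => h.displ_in_W0 hF hcard hW ha hg
  have hker : ∀ {a : T}, a ∈ fixedSub A → a ∉ E → ∀ {g : T}, g ∈ h.L → g ∉ h.W0 → ⁅a, g⁆ ∉ E :=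
    fun ha haE _ hg hgW => h.comm_not_mem hLY hF hcard hW ha haE hg hgW
  -- products of fixed elements
  have hprod : ∀ {a b g : T}, a ∈ fixedSub A → b ∈ fixedSub A → g ∈ h.L →
      ∃ e ∈ E, ⁅a * b, g⁆ = ⁅b, g⁆ * ⁅a, g⁆ * e := by
    intro a b g ha hb hg
    have he := (hCC hb hg).2 a
    refine ⟨(⁅b, g⁆ * ⁅a, g⁆)⁻¹ * ⁅a, ⁅b, g⁆⁆ * (⁅b, g⁆ * ⁅a, g⁆), h.normal.conj_mem' _ he _, ?_⟩
    simp only [commutatorElement_def]; group
  have hc2 : c * c ∈ E := by
    obtain ⟨f, hf, hfW⟩ := SetLike.not_le_iff_exists.1 hne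
    by_contra hcc
    obtain ⟨e, he, heq⟩ := hprod hc hc hf
    refine hker ((fixedSub A).mul_mem hc hc) hcc hf hfW ?_
    rw [heq, ← pow_two]
    exact E.mul_mem (hCC hc hf).1.2.1 he
  have hm : c * d ∉ E := fun hm => hcd (by
    rw [show c⁻¹ * d = (c * c)⁻¹ * (c * d) by group]
    exact E.mul_mem (E.inv_mem hc2) hm)
  have hdist : ∀ {g : T}, g ∈ h.L → g ∉ h.W0 → (⁅c, g⁆)⁻¹ * ⁅d, g⁆ ∉ E := by
    intro g hg hgW hcon
    obtain ⟨e, he, heq⟩ := hprod hc hd hg
    refine hker ((fixedSub A).mul_mem hc hd) hm hg hgW ?_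
    rw [heq, show ⁅d, g⁆ = ⁅c, g⁆ * ((⁅c, g⁆)⁻¹ * ⁅d, g⁆) by group, mul_assoc (⁅c, g⁆),
      ← h.Y_comm (h.L_le_Y (hCC hc hg).1) hcon, ← mul_assoc, ← pow_two]
    exact E.mul_mem (E.mul_mem (hCC hc hg).1.2.1 hcon) he
  -- the cosets of `E` in `W0`
  have hcover : ∀ {g : T}, g ∈ h.L → g ∉ h.W0 → ∀ y ∈ h.W0, y ∉ E →
      ∃ a ∈ fixedSub A, y⁻¹ * ⁅a, g⁆ ∈ E := by
    intro g hg hgW y hy hyE
    have hq : Nat.card (↥(h.W0.map (QuotientGroup.mk' E))) = 4 := by
      have h1 := NormalRankTwo.card_map_mul_card_inf_ker (QuotientGroup.mk' E) h.W0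
      rw [QuotientGroup.ker_mk', inf_eq_right.2 h.E_le_W0, h.card, hW] at h1
      omega
    have hne1 : ∀ {w : T}, w ∉ E → (QuotientGroup.mk' E w : T ⧸ E) ≠ 1 :=
      fun hw e => hw ((QuotientGroup.eq_one_iff _).1 e)
    have hne2 : QuotientGroup.mk' E ⁅c, g⁆ ≠ QuotientGroup.mk' E ⁅d, g⁆ :=
      fun e => hdist hg hgW (QuotientGroup.eq.1 e)
    obtain ⟨e, he, heq⟩ := hprod hc hd hg
    have hmk : QuotientGroup.mk' E ⁅c * d, g⁆ = QuotientGroup.mk' E ⁅d, g⁆ * QuotientGroup.mk' E ⁅c, g⁆ := by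
      rw [← map_mul, heq, map_mul _ (⁅d, g⁆ * ⁅c, g⁆),
        show QuotientGroup.mk' E e = 1 from (QuotientGroup.eq_one_iff _).2 he, mul_one]
    have hprod1 : QuotientGroup.mk' E ⁅d, g⁆ * QuotientGroup.mk' E ⁅c, g⁆ ≠ 1 :=
      hmk ▸ hne1 (hker ((fixedSub A).mul_mem hc hd) hm hg hgW)
    rcases eq_of_card_four (E := h.W0.map (QuotientGroup.mk' E)) hq ⟨_, hCC hd hg, rfl⟩
        ⟨_, hCC hc hg, rfl⟩ (hne1 (hker hd hdE hg hgW)) (hne1 (hker hc hcE hg hgW)) (Ne.symm hne2)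
        hprod1 (Subgroup.mem_map_of_mem (QuotientGroup.mk' E) hy) with h1 | h1 | h1 | h1
    · exact absurd h1 (hne1 hyE)
    · exact ⟨d, hd, QuotientGroup.eq.1 h1⟩
    · exact ⟨c, hc, QuotientGroup.eq.1 h1⟩
    · exact ⟨c * d, (fixedSub A).mul_mem hc hd, QuotientGroup.eq.1 (h1.trans hmk.symm)⟩
  obtain ⟨f, hf, hfW⟩ := SetLike.not_le_iff_exists.1 hne
  by_cases hcent : ∀ a ∈ fixedSub A, ∀ e ∈ E, a * e = e * a
  · -- linearity in the second variable
    set y := ⁅c, f⁆ with hy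
    have hyW : y ∈ h.W0 := hCC hc hf
    have key : ∀ {g : T}, g ∈ h.L → g ∉ h.W0 → ⁅g, y⁆ = y ^ 2 := by
      intro g hg hgW
      obtain ⟨a, ha, hae⟩ := hcover hg hgW y hyW (hker hc hcE hf hfW)
      have h1 := h.twist (hCC ha hg).1 hg
      rw [commutatorElement_eq_one_iff_mul_comm.2 (hcent a ha _ hg.2.1)] at h1
      have h2 : ⁅g, ⁅a, g⁆⁆ = ⁅g, y⁆ := by
        rw [show ⁅a, g⁆ = y * (y⁻¹ * ⁅a, g⁆) by group, h.comm_mul_right hyW.1.1
          (commutator_mem_of_normal h.normal g hae),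
          commutatorElement_eq_one_iff_mul_comm.2 (h.Y_comm hg.1 hae), mul_one]
      have h3 : ⁅a, g⁆ ^ 2 = y ^ 2 := by
        rw [show ⁅a, g⁆ = y * (y⁻¹ * ⁅a, g⁆) by group,
          (show Commute y (y⁻¹ * ⁅a, g⁆) from h.Y_comm hyW.1.1 hae).mul_pow, h.sq _ hae, mul_one]
      rw [h2, h3] at h1
      rw [eq_inv_of_mul_eq_one_right h1.symm, h.inv_eq hyW.1.2.1]
    obtain ⟨φ, hφ, hφf⟩ : ∃ φ ∈ A, f⁻¹ * φ f ∉ h.W0 := by
      by_contra hcon
      push Not at hcon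
      obtain ⟨n, hn, hfix⟩ := h.sys.exists_fixed (fun φ hφ x hx => h.W0_inv hφ hx) (g := f) hcon
      exact hfW ((h.W0.mul_mem_cancel_right hn).1
        (h.E_le_W0 (hF ⟨h.L.mul_mem hf hn.1, hfix⟩)))
    have hf' : φ f ∈ h.L := h.L_inv hφ hf
    have hf'W : φ f ∉ h.W0 := fun hm => hfW (by
      have := h.W0_inv (A.inv_mem hφ) hm
      rwa [MulAut.inv_apply_self] at this)
    have hff : f * φ f ∉ h.W0 := fun hm => hφf (by
      rw [show f⁻¹ * φ f = (f ^ 2)⁻¹ * (f * φ f) by simp only [pow_two]; group]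
      exact h.W0.mul_mem (h.W0.inv_mem (h.E_le_W0 hf.2.1)) hm)
    have h4 := key (h.L.mul_mem hf hf') hff
    rw [h.comm_mul_left hf.1 (h.L_comm hf' hyW.1) (h.L_comm hf hyW.1), key hf hfW, key hf' hf'W]
      at h4
    exact hker hc hcE hf hfW (h.mem_E_of_W0 hyW (mul_eq_left.1 h4))
  · -- `A` centralises `E`
    push Not at hcent
    obtain ⟨a, ha, e, he, hae⟩ := hcent
    obtain ⟨z, hz, hz1, hzc⟩ := h.exists_central
    have hAE : ∀ φ ∈ A, ∀ e ∈ E, φ e = e := by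
      intro φ hφ
      have hfix : φ z = z := by
        rcases h.conj_cases hz hz1 hzc a he with h1 | ⟨-, hez, h1⟩
        · exact absurd (mul_inv_eq_iff_eq_mul.1 h1) hae
        rcases h.conj_cases hz hz1 hzc a (h.inv φ hφ e he) with h2 | ⟨-, -, h2⟩
        · rw [← map_conj_fixed hφ ha, h1] at h2
          exact absurd (mul_eq_right.1 (φ.injective h2)) hz1
        · rw [← map_conj_fixed hφ ha, h1, map_mul] at h2
          exact mul_right_cancel h2
      exact fun e he => h.fix_E hφ hz hz1 hfix he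
    have hy : ⁅c, f⁆ ∈ h.W0 := hCC hc hf
    have hyE : ⁅c, f⁆ ∉ E := hker hc hcE hf hfW
    -- all squares in `W0` agree
    obtain ⟨φ, hφ, hφy⟩ : ∃ φ ∈ A, (⁅c, f⁆)⁻¹ * φ ⁅c, f⁆ ∉ E := by
      by_contra hcon
      push Not at hcon
      obtain ⟨n, hn, hfix⟩ := h.sys.exists_fixed h.inv (g := ⁅c, f⁆) hcon
      exact hyE ((E.mul_mem_cancel_right hn).1
        (hF ⟨h.L.mul_mem hy.1 (h.E_le_L hn), hfix⟩))
    set u := ⁅c, f⁆ with hu
    set v := φ u with hv
    have hvW : v ∈ h.W0 := h.W0_inv hφ hy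
    have hv2 : v ^ 2 = u ^ 2 := by rw [hv, ← map_pow, hAE φ hφ _ hy.1.2.1]
    have hvE : v ∉ E := fun hm => hyE (by
      have := h.inv φ⁻¹ (A.inv_mem hφ) _ hm
      rwa [hv, MulAut.inv_apply_self] at this)
    have huv : u * v ∉ E := fun hm => hφy (by
      rw [show u⁻¹ * v = (u ^ 2)⁻¹ * (u * v) by simp only [pow_two]; group]
      exact E.mul_mem (E.inv_mem hy.1.2.1) hm)
    have hq : Nat.card (↥(h.W0.map (QuotientGroup.mk' E))) = 4 := by
      have h1 := NormalRankTwo.card_map_mul_card_inf_ker (QuotientGroup.mk' E) h.W0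
      rw [QuotientGroup.ker_mk', inf_eq_right.2 h.E_le_W0, h.card, hW] at h1
      omega
    have hsqc : ∀ {p q : T}, p ∈ h.W0 → p⁻¹ * q ∈ E → q ^ 2 = p ^ 2 := by
      intro p q hp hpq
      rw [show q = p * (p⁻¹ * q) by group,
        (show Commute p (p⁻¹ * q) from h.Y_comm hp.1.1 hpq).mul_pow, h.sq _ hpq, mul_one]
    -- any two independent elements of `W0` with their product have equal squares
    have hall : ∀ w ∈ h.W0, w ∉ E → w ^ 2 = u ^ 2 := by
      obtain ⟨ψ, hψ, hψv⟩ : ∃ ψ ∈ A, (v⁻¹ * ψ v ∉ E ∧ u⁻¹ * ψ v ∉ E) := by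
        by_contra hcon
        push Not at hcon
        -- otherwise the coset of `u v` is fixed
        have hfixuv : ∀ ψ ∈ A, (u * v)⁻¹ * ψ (u * v) ∈ E := by
          intro ψ hψ
          have hperm : ∀ ψ ∈ A, v⁻¹ * ψ v ∈ E ∨ u⁻¹ * ψ v ∈ E := fun ψ hψ => by
            by_cases h1 : v⁻¹ * ψ v ∈ E
            · exact Or.inl h1
            · exact Or.inr (hcon ψ hψ h1)
          have hperm' : u⁻¹ * ψ u ∈ E ∨ v⁻¹ * ψ u ∈ E := by
            rcases hperm (ψ * φ⁻¹) (A.mul_mem hψ (A.inv_mem hφ)) with h1 | h1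
            · rw [hv, MulAut.mul_apply, MulAut.inv_apply_self] at h1
              exact Or.inr h1
            · rw [hv, MulAut.mul_apply, MulAut.inv_apply_self] at h1
              exact Or.inl h1
          have hcm : (QuotientGroup.mk' E u : T ⧸ E) * QuotientGroup.mk' E v =
              QuotientGroup.mk' E v * QuotientGroup.mk' E u := by
            rw [← commutatorElement_eq_one_iff_mul_comm, ← map_commutatorElement]
            exact (QuotientGroup.eq_one_iff _).2 (h.L_comm hy.1 hvW.1)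
          refine QuotientGroup.eq.1 (?_ : QuotientGroup.mk' E (u * v) = QuotientGroup.mk' E (ψ (u * v)))
          rw [map_mul ψ, map_mul, map_mul]
          rcases hperm' with h1 | h1 <;> rcases hperm ψ hψ with h2 | h2
          · rw [show QuotientGroup.mk' E u = QuotientGroup.mk' E (ψ u) from QuotientGroup.eq.2 h1,
              show QuotientGroup.mk' E v = QuotientGroup.mk' E (ψ v) from QuotientGroup.eq.2 h2]
          · exfalso
            have h3 : (ψ u)⁻¹ * ψ v ∈ E := by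
              rw [show (ψ u)⁻¹ * ψ v = (u⁻¹ * ψ u)⁻¹ * (u⁻¹ * ψ v) by group]
              exact E.mul_mem (E.inv_mem h1) h2
            rw [← map_inv, ← map_mul] at h3
            have := h.inv ψ⁻¹ (A.inv_mem hψ) _ h3
            rw [MulAut.inv_apply_self] at this
            exact hφy this
          · exfalso
            have h3 : (ψ u)⁻¹ * ψ v ∈ E := by
              rw [show (ψ u)⁻¹ * ψ v = (v⁻¹ * ψ u)⁻¹ * (v⁻¹ * ψ v) by group]
              exact E.mul_mem (E.inv_mem h1) h2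
            rw [← map_inv, ← map_mul] at h3
            have := h.inv ψ⁻¹ (A.inv_mem hψ) _ h3
            rw [MulAut.inv_apply_self] at this
            exact hφy this
          · rw [← show QuotientGroup.mk' E v = QuotientGroup.mk' E (ψ u) from QuotientGroup.eq.2 h1,
              ← show QuotientGroup.mk' E u = QuotientGroup.mk' E (ψ v) from QuotientGroup.eq.2 h2,
              hcm]
        obtain ⟨n, hn, hfix⟩ := h.sys.exists_fixed h.inv (g := u * v) hfixuv
        exact huv ((E.mul_mem_cancel_right hn).1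
          (hF ⟨h.L.mul_mem (h.L.mul_mem hy.1 hvW.1) (h.E_le_L hn), hfix⟩))
      have hψv2 : (ψ v) ^ 2 = u ^ 2 := by rw [← map_pow, hAE ψ hψ _ hvW.1.2.1, hv2]
      intro w hw hwE
      rcases eq_of_card_four (E := h.W0.map (QuotientGroup.mk' E)) hq ⟨_, hy, rfl⟩ ⟨_, hvW, rfl⟩
          (fun e => hyE ((QuotientGroup.eq_one_iff _).1 e))
          (fun e => hvE ((QuotientGroup.eq_one_iff _).1 e))
          (fun e => hφy (QuotientGroup.eq.1 e))
          (fun e => huv ((QuotientGroup.eq_one_iff _).1 (by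
            rw [← map_mul] at e; exact e)))
          (Subgroup.mem_map_of_mem (QuotientGroup.mk' E) hw) with h1 | h1 | h1 | h1
      · exact absurd ((QuotientGroup.eq_one_iff _).1 h1) hwE
      · exact hsqc hy (QuotientGroup.eq.1 h1.symm)
      · exact (hsqc hvW (QuotientGroup.eq.1 h1.symm)).trans hv2
      · -- `w` and `ψ v` lie in the coset of `u v`
        rcases eq_of_card_four (E := h.W0.map (QuotientGroup.mk' E)) hq ⟨_, hy, rfl⟩ ⟨_, hvW, rfl⟩
            (fun e => hyE ((QuotientGroup.eq_one_iff _).1 e))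
            (fun e => hvE ((QuotientGroup.eq_one_iff _).1 e))
            (fun e => hφy (QuotientGroup.eq.1 e))
            (fun e => huv ((QuotientGroup.eq_one_iff _).1 (by
              rw [← map_mul] at e; exact e)))
            (Subgroup.mem_map_of_mem (QuotientGroup.mk' E) (h.W0_inv hψ hvW)) with h2 | h2 | h2 | h2
        · refine absurd ((QuotientGroup.eq_one_iff _).1 h2) fun hm => hvE ?_
          have := h.inv ψ⁻¹ (A.inv_mem hψ) _ hm
          rwa [MulAut.inv_apply_self] at this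
        · exact absurd (QuotientGroup.eq.1 h2.symm) hψv.2
        · exact absurd (QuotientGroup.eq.1 h2.symm) hψv.1
        · exact (hsqc (h.W0_inv hψ hvW) (QuotientGroup.eq.1 (h2.trans h1.symm))).trans hψv2
    -- additivity in the fixed element
    obtain ⟨e', he', heq⟩ := hprod hc hd hf
    have h1 := h.twist (hCC hc hf).1 hf
    have h2 := h.twist (hCC hd hf).1 hf
    have h3 := h.twist (hCC ((fixedSub A).mul_mem hc hd) hf).1 hf
    rw [show ⁅c * d, f ^ 2⁆ = c * ⁅d, f ^ 2⁆ * c⁻¹ * ⁅c, f ^ 2⁆ by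
        simp only [commutatorElement_def]; group,
      h.comm_E_central hf.2.1 d c, mul_inv_cancel_right, h1, h2,
      hall _ (hCC hd hf) (hker hd hdE hf hfW),
      hall _ (hCC ((fixedSub A).mul_mem hc hd) hf)
        (hker ((fixedSub A).mul_mem hc hd) hm hf hfW), ← hu] at h3
    have h4 : ⁅f, ⁅c * d, f⁆⁆ = ⁅f, ⁅d, f⁆⁆ * ⁅f, u⁆ := by
      rw [heq, h.comm_mul_right ((h.Y).mul_mem (h.L_le_Y (hCC hd hf).1) (h.L_le_Y hy.1))
          (commutator_mem_of_normal h.normal f he'),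
        commutatorElement_eq_one_iff_mul_comm.2 (h.Y_comm hf.1 he'), mul_one,
        h.comm_mul_right (h.L_le_Y (hCC hd hf).1) (h.L_comm hf hy.1)]
    rw [h4] at h3
    have hB : ⁅f, ⁅d, f⁆⁆ ∈ E := h.L_comm hf (hCC hd hf).1
    have hB' : ⁅f, u⁆ ∈ E := h.L_comm hf hy.1
    have hu2 : u ^ 2 ∈ E := hy.1.2.1
    have h5 : u ^ 2 * ⁅f, ⁅d, f⁆⁆ * (u ^ 2 * ⁅f, u⁆) = u ^ 2 * ⁅f, ⁅d, f⁆⁆ * ⁅f, u⁆ := by
      rw [h3, mul_assoc]
    rw [← mul_assoc] at h5
    have h6 := mul_right_cancel h5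
    exact hyE (h.mem_E_of_W0 hy (mul_eq_left.1 h6))

/-- `|T|` is 64 or 128. -/
theorem card_T (hLY : h.Y = h.L) (hF : h.L ⊓ fixedSub A ≤ E) (hcard : Nat.card h.L = 64) :
    Nat.card T = 64 ∨ Nat.card T = 128 := by
  classical
  haveI := h.L_normal
  have hidx : (h.L).index ≤ 2 := by
    by_cases htop : ∀ t : T, t ∈ h.L
    · rw [(eq_top_iff.2 fun t _ => htop t : h.L = ⊤), Subgroup.index_top]; norm_num
    push Not at htop
    obtain ⟨t₀, ht₀⟩ := htop
    rw [Subgroup.index_eq_card]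
    refine (Nat.card_le_card_of_surjective
      (fun b : Bool => if b then (QuotientGroup.mk t₀ : T ⧸ h.L) else QuotientGroup.mk 1) ?_).trans
      (by simp)
    intro q
    induction q using QuotientGroup.induction_on with
    | H t =>
      by_cases ht : t ∈ h.L
      · exact ⟨false, QuotientGroup.eq.2 (by simpa using ht)⟩
      refine ⟨true, ?_⟩
      show (QuotientGroup.mk t₀ : T ⧸ h.L) = QuotientGroup.mk t
      rw [QuotientGroup.eq]
      obtain ⟨c, hc, y, hy, rfl⟩ := h.decompose t₀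
      obtain ⟨d, hd, y', hy', rfl⟩ := h.decompose t
      rw [hLY] at hy hy'
      have hcE : c ∉ E := fun hm => ht₀ (h.L.mul_mem (h.E_le_L hm) hy)
      have hdE : d ∉ E := fun hm => ht (h.L.mul_mem (h.E_le_L hm) hy')
      rw [show (c * y)⁻¹ * (d * y') = y⁻¹ * (c⁻¹ * d) * y' by group]
      exact h.L.mul_mem (h.L.mul_mem (h.L.inv_mem hy)
        (h.E_le_L (h.fixed_unique hLY hF hcard hc hd hcE hdE))) hy'
  have h0 : (h.L).index ≠ 0 := Subgroup.index_ne_zero_of_finite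
  have h1 := Subgroup.card_mul_index h.L
  rw [hcard] at h1
  rcases Nat.lt_or_ge (h.L).index 2 with h2 | h2
  · exact Or.inl (by rw [← h1, show (h.L).index = 1 by omega])
  · exact Or.inr (by rw [← h1, show (h.L).index = 2 by omega])

/-- The case of a singular element. -/
theorem card_T_of_singular {s : T} (hs : s ∈ h.L) (hs2 : s ^ 2 = 1) (hsE : s ∉ E) :
    Nat.card T = 64 ∨ Nat.card T = 128 :=
  h.card_T (h.Y_eq_L_of_singular hs hs2 hsE) (h.shape_of_singular hs hs2 hsE).1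
    (h.shape_of_singular hs hs2 hsE).2.1

end Inv4

end Cfsg.Agent.Lib.NormRankTwoAuto23
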