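import Cfsg.Agent.Lib.NormRankTwoAuto23.Basic

/-!
# A quaternion subgroup with all of `T` inducing inner automorphisms on it
-/

set_option autoImplicit false
set_option linter.unusedSectionVars false
set_option linter.style.haveILetI false

namespace Cfsg.Agent.Lib.NormRankTwoAuto23

variable {T : Type*} [Group T]

/-- `⟨x, y⟩` is a quaternion group with central involution `z` and `T = ⟨x, y⟩ C(x, y)`. -/
structure Quat (z x y : T) : Prop where
  zc : ∀ t : T, t * z = z * t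
  z_ne : z ≠ 1
  zz : z * z = 1
  xx : x * x = z
  yy : y * y = z
  yx : y * x * y⁻¹ = x * z
  dec : ∀ t : T, ∃ q ∈ Subgroup.closure ({x, y} : Set T), ∃ d : T,
    d * x = x * d ∧ d * y = y * d ∧ t = q * d

/-- It suffices that `T` is trivial on `⟨x, y⟩` modulo `z`. -/
theorem Quat.of_central_mod {z x y : T} (zc : ∀ t : T, t * z = z * t) (z_ne : z ≠ 1)
    (zz : z * z = 1) (xx : x * x = z) (yy : y * y = z) (yx : y * x * y⁻¹ = x * z)
    (hx : ∀ t : T, t * x * t⁻¹ = x ∨ t * x * t⁻¹ = x * z)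
    (hy : ∀ t : T, t * y * t⁻¹ = y ∨ t * y * t⁻¹ = y * z) : Quat z x y := by
  refine ⟨zc, z_ne, zz, xx, yy, yx, fun t => ?_⟩
  have xy : x * y * x⁻¹ = y * z := by
    have h1 : y * x = x * y * z := by
      rw [mul_inv_eq_iff_eq_mul.1 yx, mul_assoc, ← zc, ← mul_assoc]
    rw [show x * y = y * x * z by rw [h1, mul_assoc, zz, mul_one], mul_assoc _ z, ← zc]
    group
  have hxm : x ∈ Subgroup.closure ({x, y} : Set T) := Subgroup.subset_closure (Set.mem_insert _ _)
  have hym : y ∈ Subgroup.closure ({x, y} : Set T) :=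
    Subgroup.subset_closure (Set.mem_insert_of_mem _ rfl)
  suffices h : ∃ q ∈ Subgroup.closure ({x, y} : Set T),
      q * x * q⁻¹ = t * x * t⁻¹ ∧ q * y * q⁻¹ = t * y * t⁻¹ by
    obtain ⟨q, hq, h1, h2⟩ := h
    refine ⟨q, hq, q⁻¹ * t, ?_, ?_, (mul_inv_cancel_left q t).symm⟩
    · calc q⁻¹ * t * x = q⁻¹ * (t * x * t⁻¹) * t := by group
        _ = x * (q⁻¹ * t) := by rw [← h1]; group
    · calc q⁻¹ * t * y = q⁻¹ * (t * y * t⁻¹) * t := by group
        _ = y * (q⁻¹ * t) := by rw [← h2]; group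
  rcases hx t with h1 | h1 <;> rcases hy t with h2 | h2
  · exact ⟨1, one_mem _, by simp [h1], by simp [h2]⟩
  · exact ⟨x, hxm, by simp [h1], by rw [h2, xy]⟩
  · exact ⟨y, hym, by rw [h1, yx], by simp [h2]⟩
  · refine ⟨x * y, mul_mem hxm hym, ?_, ?_⟩
    · calc x * y * x * (x * y)⁻¹ = x * (y * x * y⁻¹) * x⁻¹ := by group
        _ = x * z := by rw [yx]; calc x * (x * z) * x⁻¹ = x * (x * z * x⁻¹) := by group
              _ = x * z := by rw [mul_assoc x z, ← zc x⁻¹, mul_inv_cancel_left]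
        _ = t * x * t⁻¹ := h1.symm
    · calc x * y * y * (x * y)⁻¹ = x * y * x⁻¹ := by group
        _ = t * y * t⁻¹ := by rw [xy, h2]

end Cfsg.Agent.Lib.NormRankTwoAuto23
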