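import Cfsg.Agent.Lib.NormRankTwoAuto23.Section
import Cfsg.Agent.Lib.NormRankTwoAuto23.QuatDef
import Cfsg.Agent.Lib.NormRankTwoAuto23.Abelian
import Cfsg.Agent.Lib.PGroups.UniqueInvolution

/-!
# An invariant normal four-group, or a distinguished quaternion subgroup
-/

set_option autoImplicit false
set_option linter.unusedSectionVars false
set_option linter.style.haveILetI false

namespace Cfsg.Agent.Lib.NormRankTwoAuto23

open scoped commutatorElement
open Cfsg.Agent.Lib.TwoGroupOddAuto (eq_of_card_four closure_elemAb)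

variable {T : Type*} [Group T]

/-- A normal four-group. -/
structure IsFour (B : Subgroup T) : Prop where
  normal : B.Normal
  comm : ∀ a ∈ B, ∀ b ∈ B, a * b = b * a
  sq : ∀ b ∈ B, b ^ 2 = 1
  card : Nat.card B = 4

variable [Finite T] {A : Subgroup (MulAut T)}

theorem IsFour.map {B : Subgroup T} (hB : IsFour B) (φ : MulAut T) : IsFour (B.map φ.toMonoidHom) where
  normal := hB.normal.map _ φ.surjective
  comm := by
    rintro _ ⟨a, ha, rfl⟩ _ ⟨b, hb, rfl⟩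
    rw [← map_mul, ← map_mul, hB.comm a ha b hb]
  sq := by rintro _ ⟨b, hb, rfl⟩; rw [← map_pow, hB.sq b hb, map_one]
  card := by
    rw [Subgroup.card_map_of_injective (f := φ.toMonoidHom) φ.injective]
    exact hB.card

/-- Two normal four-groups meet in a central involution and do not commute. -/
theorem Sys.pair (h : Sys A) {a b : Subgroup T} (ha : IsFour a) (hb : IsFour b) (hne : a ≠ b) :
    ∃ z, z ∈ a ∧ z ∈ b ∧ z ≠ 1 ∧ (∀ t : T, t * z = z * t) ∧
      (∀ w ∈ a, (∀ t : T, t * w = w * t) → w = 1 ∨ w = z) ∧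
      ∀ a₁ ∈ a, ∀ b₁ ∈ b, a₁ ≠ 1 → a₁ ≠ z → b₁ ≠ 1 → b₁ ≠ z → ⁅a₁, b₁⁆ = z := by
  have hnc : ¬ ∀ x ∈ a, ∀ y ∈ b, x * y = y * x := by
    intro hcom
    obtain ⟨hcm, h2⟩ := closure_elemAb (S := (a : Set T) ∪ b)
      (by
        rintro x (hx | hx) y (hy | hy)
        exacts [ha.comm x hx y hy, hcom x hx y hy, (hcom y hy x hx).symm, hb.comm x hx y hy])
      (by rintro x (hx | hx); exacts [ha.sq x hx, hb.sq x hx])
    have hK : Subgroup.closure ((a : Set T) ∪ b) = a ⊔ b := by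
      rw [Subgroup.closure_union, Subgroup.closure_eq, Subgroup.closure_eq]
    rw [hK] at hcm h2
    haveI := ha.normal
    haveI := hb.normal
    have h4 := h.small _ inferInstance hcm h2
    exact hne ((Subgroup.eq_of_le_of_card_ge le_sup_left (h4.trans ha.card.ge)).trans
      (Subgroup.eq_of_le_of_card_ge le_sup_right (h4.trans hb.card.ge)).symm)
  have hint : ∀ x ∈ a, ∀ y ∈ b, ⁅x, y⁆ ∈ a ∧ ⁅x, y⁆ ∈ b := fun x hx y hy =>
    ⟨commutator_mem_symm (commutator_mem_of_normal ha.normal y hx),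
      commutator_mem_of_normal hb.normal x hy⟩
  push Not at hnc
  obtain ⟨a₀, ha₀, b₀, hb₀, h0⟩ := hnc
  set z := ⁅a₀, b₀⁆ with hz
  have hz1 : z ≠ 1 := fun e => h0 (commutatorElement_eq_one_iff_mul_comm.1 e)
  obtain ⟨hza, hzb⟩ := hint a₀ ha₀ b₀ hb₀
  have hzu : ∀ w ∈ a, w ∈ b → w = 1 ∨ w = z := by
    intro w hwa hwb
    by_contra hcon
    rw [not_or] at hcon
    have hzw : z * w ≠ 1 := fun e => hcon.2 (by
      rw [← inv_eq_of_mul_eq_one_right e, inv_eq_of_mul_eq_one_right (by rw [← pow_two, ha.sq z hza])])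
    have hle : a ≤ b := fun x hx => by
      rcases eq_of_card_four ha.card hza hwa hz1 hcon.1 (Ne.symm hcon.2) hzw hx with
        rfl | rfl | rfl | rfl
      exacts [b.one_mem, hzb, hwb, b.mul_mem hzb hwb]
    exact hne (Subgroup.eq_of_le_of_card_ge hle (hb.card.trans ha.card.symm).le)
  have hzc : ∀ t : T, t * z = z * t := fun t => by
    rcases hzu _ (ha.normal.conj_mem z hza t) (hb.normal.conj_mem z hzb t) with h1 | h1
    · exact absurd (conj_eq_one_iff.1 h1) hz1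
    · exact mul_inv_eq_iff_eq_mul.1 h1
  have hgen : ∀ {B : Subgroup T}, IsFour B → z ∈ B → ∀ {w : T}, w ∈ B → w ≠ 1 → w ≠ z →
      ∀ {y : T}, y * w = w * y → ∀ x ∈ B, y * x = x * y := by
    intro B hB hzB w hw hw1 hwz y hy x hx
    have hzw : z * w ≠ 1 := fun e => hwz (by
      rw [← inv_eq_of_mul_eq_one_right e, inv_eq_of_mul_eq_one_right (by rw [← pow_two, hB.sq z hzB])])
    rcases eq_of_card_four hB.card hzB hw hz1 hw1 (Ne.symm hwz) hzw hx with rfl | rfl | rfl | rfl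
    · simp
    · exact hzc y
    · exact hy
    · exact ((show Commute y z from hzc y).mul_right hy).eq
  have hall : ∀ a₁ ∈ a, a₁ ≠ 1 → a₁ ≠ z → ∀ b₁ ∈ b, b₁ ≠ 1 → b₁ ≠ z → a₁ * b₁ ≠ b₁ * a₁ := by
    intro a₁ ha₁ h1 h2 b₁ hb₁ h3 h4 hcom
    refine h0 ?_
    have s1 : ∀ y ∈ b, y * a₁ = a₁ * y := fun y hy => (hgen hb hzb hb₁ h3 h4 hcom y hy).symm
    exact (hgen ha hza ha₁ h1 h2 (s1 b₀ hb₀) a₀ ha₀).symm
  refine ⟨z, hza, hzb, hz1, hzc, fun w hw hwc => ?_, fun a₁ ha₁ b₁ hb₁ h1 h2 h3 h4 => ?_⟩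
  · by_contra hcon
    rw [not_or] at hcon
    exact h0 ((hgen ha hza hw hcon.1 hcon.2 (hwc b₀) a₀ ha₀).symm)
  · obtain ⟨h5, h6⟩ := hint a₁ ha₁ b₁ hb₁
    exact (hzu _ h5 h6).resolve_left fun e =>
      hall a₁ ha₁ h1 h2 b₁ hb₁ h3 h4 (commutatorElement_eq_one_iff_mul_comm.1 e)

/-- A normal noncyclic abelian subgroup gives a normal four-group. -/
theorem Sys.exists_four (h : Sys A)
    (hex : ∃ M : Subgroup T, M.Normal ∧ IsMulCommutative M ∧ ¬ IsCyclic M) : ∃ B : Subgroup T, IsFour B := by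
  haveI : Fact (Nat.Prime 2) := ⟨Nat.prime_two⟩
  obtain ⟨M, hMn, hMc, hMnc⟩ := hex
  have hcomm : ∀ a ∈ M, ∀ b ∈ M, a * b = b * a := fun a ha b hb => setLike_mul_comm (s := M) ha hb
  have hn : (omega hcomm).Normal :=
    ⟨fun v hv t => ⟨hMn.conj_mem v hv.1 t, by rw [conj_pow, hv.2]; simp⟩⟩
  have hle : Nat.card (omega hcomm) ≤ 4 := h.small _ hn
    ⟨⟨fun a b => Subtype.ext (hcomm a a.2.1 b b.2.1)⟩⟩ fun v hv => hv.2
  have hsub : Cfsg.omegaOne 2 M ≤ omega hcomm := (Subgroup.closure_le _).2 fun v hv => hv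
  have h4 := (PGroups.sq_le_card_omegaOne hMc (h.pg.to_subgroup M) hMnc).trans
    (Subgroup.card_le_of_le hsub)
  exact ⟨omega hcomm, hn, fun a ha b hb => hcomm a ha.1 b hb.1, fun v hv => hv.2,
    le_antisymm hle (by simpa using h4)⟩

/-- An invariant normal four-group, or a quaternion subgroup with `A`-fixed central involution. -/
theorem Sys.four_or_quat (h : Sys A)
    (hex : ∃ M : Subgroup T, M.Normal ∧ IsMulCommutative M ∧ ¬ IsCyclic M) :
    (∃ E : Subgroup T, Inv4 A E) ∨ ∃ z x y : T, Quat z x y ∧ z ∈ fixedSub A := by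
  obtain ⟨a, ha⟩ := h.exists_four hex
  by_cases hinv : ∀ φ ∈ A, ∀ e ∈ a, φ e ∈ a
  · exact Or.inl ⟨a, h, ha.normal, ha.comm, ha.sq, hinv, ha.card⟩
  right
  push Not at hinv
  obtain ⟨φ, hφ, e, he, hfe⟩ := hinv
  set b := a.map φ.toMonoidHom with hb0
  have hb : IsFour b := ha.map φ
  set c := b.map φ.toMonoidHom with hc0
  have hc : IsFour c := hb.map φ
  have hab : a ≠ b := fun eq => hfe (eq.ge ⟨e, he, rfl⟩)
  have hbc : b ≠ c := fun eq => hab (Subgroup.map_injective (f := φ.toMonoidHom) φ.injective eq)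
  have hac : a ≠ c := by
    intro eq
    obtain ⟨k, hk⟩ := h.odd.of_dvd_nat (Subgroup.orderOf_dvd_natCard A hφ)
    have hcomp : ∀ n : ℕ, a.map (φ ^ (2 * n)).toMonoidHom = a := by
      intro n
      induction n with
      | zero => ext v; simp
      | succ n ih =>
        conv_rhs => rw [eq, hc0, hb0, Subgroup.map_map]
        conv_lhs => rw [show 2 * (n + 1) = 2 + 2 * n by ring, pow_add]
        rw [show (φ ^ 2 * φ ^ (2 * n)).toMonoidHom = (φ ^ 2).toMonoidHom.comp (φ ^ (2 * n)).toMonoidHom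
          from rfl, ← Subgroup.map_map, ih]
        rfl
    refine hab ?_
    have h1 : φ ^ (2 * k) * φ = 1 := by rw [← pow_succ, ← hk, pow_orderOf_eq_one]
    calc a = a.map (φ ^ (2 * k) * φ).toMonoidHom := by rw [h1]; ext v; simp
      _ = b.map (φ ^ (2 * k)).toMonoidHom := by rw [hb0, Subgroup.map_map]; rfl
      _ = b := ?_
    have h2 := congrArg (Subgroup.map φ.toMonoidHom) (hcomp k)
    rw [Subgroup.map_map] at h2
    rw [hb0, Subgroup.map_map]
    calc a.map ((φ ^ (2 * k)).toMonoidHom.comp φ.toMonoidHom)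
        = a.map (φ.toMonoidHom.comp (φ ^ (2 * k)).toMonoidHom) := by
          congr 1
          exact MonoidHom.ext fun v => DFunLike.congr_fun (Commute.pow_self φ (2 * k)).eq v
      _ = _ := h2
  obtain ⟨z, hza, hzb, hz1, hzc, hzu, hzab⟩ := h.pair ha hb hab
  obtain ⟨z', hza', hzc', hz1', hzcen', -, hzac⟩ := h.pair ha hc hac
  have hz' : z' = z := (hzu z' hza' hzcen').resolve_left hz1'
  subst hz'
  obtain ⟨z'', hzb'', hzc'', hz1'', hzcen'', hzu'', hzbc⟩ := h.pair hb hc hbc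
  have hz'' : z' = z'' := (hzu'' z' hzb hzc).resolve_left hz1
  subst hz''
  clear hza' hz1' hzcen' hzb'' hz1'' hzcen''
  have hzz : z' * z' = 1 := by rw [← pow_two, ha.sq z' hza]
  have hpick : ∀ {B : Subgroup T}, IsFour B → ∃ w ∈ B, w ≠ 1 ∧ w ≠ z' := by
    intro B hB
    classical
    by_contra hcon
    push Not at hcon
    have hf : Function.Injective (fun v : B => decide ((v : T) = 1)) := by
      intro v w hvw
      have h1 : ((v : T) = 1 ↔ (w : T) = 1) := decide_eq_decide.1 hvw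
      by_cases hv : (v : T) = 1
      · exact Subtype.ext (hv.trans (h1.1 hv).symm)
      · exact Subtype.ext ((hcon v v.2 hv).trans (hcon w w.2 (fun e => hv (h1.2 e))).symm)
    have := Nat.card_le_card_of_injective _ hf
    rw [hB.card, Nat.card_eq_fintype_card, Fintype.card_bool] at this
    omega
  obtain ⟨a₁, ha₁, a11, a12⟩ := hpick ha
  obtain ⟨b₁, hb₁, b11, b12⟩ := hpick hb
  obtain ⟨c₁, hc₁, c11, c12⟩ := hpick hc
  have iA : a₁⁻¹ = a₁ := inv_eq_of_mul_eq_one_right (by rw [← pow_two, ha.sq a₁ ha₁])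
  have iB : b₁⁻¹ = b₁ := inv_eq_of_mul_eq_one_right (by rw [← pow_two, hb.sq b₁ hb₁])
  have iC : c₁⁻¹ = c₁ := inv_eq_of_mul_eq_one_right (by rw [← pow_two, hc.sq c₁ hc₁])
  have kab : ⁅a₁, b₁⁆ = z' := hzab a₁ ha₁ b₁ hb₁ a11 a12 b11 b12
  have kac : ⁅a₁, c₁⁆ = z' := hzac a₁ ha₁ c₁ hc₁ a11 a12 c11 c12
  have kbc : ⁅b₁, c₁⁆ = z' := hzbc b₁ hb₁ c₁ hc₁ b11 b12 c11 c12
  have kflip : ∀ {u v : T}, ⁅u, v⁆ = z' → v * u * v⁻¹ = z' * u := fun {u v} huv => by
    rw [conj_eq_commutator_mul, ← commutatorElement_inv, huv, inv_eq_of_mul_eq_one_right hzz]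
  have kconj : ∀ {u v : T}, ⁅u, v⁆ = z' → u * v * u⁻¹ = z' * v := fun {u v} huv => by
    rw [conj_eq_commutator_mul, huv]
  have hmove : ∀ {B : Subgroup T}, IsFour B → z' ∈ B → ∀ {w : T}, w ∈ B → w ≠ 1 → w ≠ z' → ∀ t : T,
      t * w * t⁻¹ = w ∨ t * w * t⁻¹ = z' * w := by
    intro B hB hzB w hw hw1 hwz t
    have hzw : z' * w ≠ 1 := fun e => hwz (by
      rw [← inv_eq_of_mul_eq_one_right e, inv_eq_of_mul_eq_one_right hzz])
    rcases eq_of_card_four hB.card hzB hw hz1 hw1 (Ne.symm hwz) hzw (hB.normal.conj_mem w hw t)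
      with h1 | h1 | h1 | h1
    · exact absurd (conj_eq_one_iff.1 h1) hw1
    · refine absurd ?_ hwz
      calc w = t⁻¹ * (t * w * t⁻¹) * t := by group
        _ = z' := by rw [h1, hzc t⁻¹, inv_mul_cancel_right]
    · exact Or.inl h1
    · exact Or.inr h1
  have hprod : ∀ {u v : T}, (∀ t : T, t * u * t⁻¹ = u ∨ t * u * t⁻¹ = z' * u) →
      (∀ t : T, t * v * t⁻¹ = v ∨ t * v * t⁻¹ = z' * v) →
      ∀ t : T, t * (u * v) * t⁻¹ = u * v ∨ t * (u * v) * t⁻¹ = u * v * z' := by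
    intro u v hu hv t
    rcases hu t with h1 | h1 <;> rcases hv t with h2 | h2 <;>
      rw [show t * (u * v) * t⁻¹ = (t * u * t⁻¹) * (t * v * t⁻¹) by group, h1, h2]
    · exact Or.inl rfl
    · right; rw [← mul_assoc, hzc u, mul_assoc z', ← hzc (u * v)]
    · right; rw [mul_assoc z', ← hzc (u * v)]
    · left
      rw [show z' * u * (z' * v) = z' * (u * z') * v by group, hzc u, ← mul_assoc, hzz, one_mul]
  refine ⟨z', a₁ * b₁, a₁ * c₁, Quat.of_central_mod hzc hz1 hzz ?_ ?_ ?_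
    (hprod (hmove ha hza ha₁ a11 a12) (hmove hb hzb hb₁ b11 b12))
    (hprod (hmove ha hza ha₁ a11 a12) (hmove hc hzc' hc₁ c11 c12)), fun ψ hψ => ?_⟩
  · rw [show a₁ * b₁ * (a₁ * b₁) = a₁ * b₁ * a₁⁻¹ * b₁⁻¹ by rw [iA, iB]; group]
    exact kab
  · rw [show a₁ * c₁ * (a₁ * c₁) = a₁ * c₁ * a₁⁻¹ * c₁⁻¹ by rw [iA, iC]; group]
    exact kac
  · rw [show a₁ * c₁ * (a₁ * b₁) * (a₁ * c₁)⁻¹ =
      (a₁ * (c₁ * a₁ * c₁⁻¹) * a₁⁻¹) * (a₁ * (c₁ * b₁ * c₁⁻¹) * a₁⁻¹) by group,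
      kflip kac, kflip kbc,
      show a₁ * (z' * a₁) * a₁⁻¹ = a₁ * z' by group,
      show a₁ * (z' * b₁) * a₁⁻¹ = a₁ * z' * a₁⁻¹ * (a₁ * b₁ * a₁⁻¹) by group, kconj kab]
    rw [hzc a₁, mul_inv_cancel_right, ← mul_assoc z' z' b₁, hzz, one_mul, mul_assoc,
      ← hzc (a₁ * b₁)]
  · have hψa := ha.map ψ
    have hzψ : ψ z' ∈ a.map ψ.toMonoidHom := ⟨z', hza, rfl⟩
    have hψc : ∀ t : T, t * ψ z' = ψ z' * t := fun t => by
      rw [show t = ψ (ψ⁻¹ t) from (MulAut.apply_inv_self T ψ t).symm, ← map_mul, ← map_mul, hzc]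
    have hψ1 : ψ z' ≠ 1 := fun e => hz1 ((map_eq_one_iff ψ ψ.injective).1 e)
    by_cases heq : a.map ψ.toMonoidHom = a
    · exact (hzu _ (heq ▸ hzψ) hψc).resolve_left hψ1
    · obtain ⟨w, hwψ, hwa, hw1, hwc, hwu, -⟩ := h.pair hψa ha heq
      have hwz : w = z' := (hzu w hwa hwc).resolve_left hw1
      exact ((hwu _ hzψ hψc).resolve_left hψ1).trans hwz

end Cfsg.Agent.Lib.NormRankTwoAuto23
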