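import Cfsg.Agent.Lib.NormRankTwoAuto23.QuatDef
import Cfsg.Agent.Lib.Fusion.Alperin
import Cfsg.Agent.Lib.Transfer.Fusion
import Cfsg.Agent.Lib.FTDeps.Row0516

/-!
# A distinguished quaternion subgroup of a Sylow 2-subgroup gives an isolated involution

So this does not happen in a nonabelian simple group.
-/

set_option autoImplicit false
set_option linter.unusedSectionVars false
set_option linter.style.haveILetI false
set_option linter.unusedSimpArgs false

namespace Cfsg.Agent.Lib.NormRankTwoAuto23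

open scoped commutatorElement

universe u

section Local

variable {T : Type*} [Group T] {z x y : T}

namespace Quat

variable (h : Quat z x y)
include h

theorem mem_cases {q : T} (hq : q ∈ Subgroup.closure ({x, y} : Set T)) :
    q = 1 ∨ q = z ∨ q = x ∨ q = x * z ∨ q = y ∨ q = y * z ∨ q = x * y ∨ q = x * (y * z) := by
  have hzx : z * x = x * z := (h.zc x).symm
  have hzy : z * y = y * z := (h.zc y).symm
  have hzx' : ∀ w, z * (x * w) = x * (z * w) := fun w => by rw [← mul_assoc, hzx, mul_assoc]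
  have hzy' : ∀ w, z * (y * w) = y * (z * w) := fun w => by rw [← mul_assoc, hzy, mul_assoc]
  have hzz' : ∀ w, z * (z * w) = w := fun w => by rw [← mul_assoc, h.zz, one_mul]
  have hxx' : ∀ w, x * (x * w) = z * w := fun w => by rw [← mul_assoc, h.xx]
  have hyy' : ∀ w, y * (y * w) = z * w := fun w => by rw [← mul_assoc, h.yy]
  have hyx : y * x = x * (y * z) := by
    rw [mul_inv_eq_iff_eq_mul.1 h.yx, mul_assoc, hzy]
  have hyx' : ∀ w, y * (x * w) = x * (y * (z * w)) := fun w => by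
    rw [← mul_assoc, hyx, mul_assoc, mul_assoc]
  have hxi : x⁻¹ = x * z := inv_eq_of_mul_eq_one_right (by rw [hxx', h.zz])
  have hyi : y⁻¹ = y * z := inv_eq_of_mul_eq_one_right (by rw [hyy', h.zz])
  induction hq using Subgroup.closure_induction_right with
  | one => exact Or.inl rfl
  | mul_right a b _ hb iha =>
    rcases hb with rfl | rfl <;> rcases iha with rfl | rfl | rfl | rfl | rfl | rfl | rfl | rfl <;>
      simp [mul_assoc, hzx, hzy, hzx', hzy', hzz', hxx', hyy', hyx, hyx', h.zz, h.xx, h.yy]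
  | mul_inv_cancel a b _ hb iha =>
    rcases hb with rfl | rfl <;> rcases iha with rfl | rfl | rfl | rfl | rfl | rfl | rfl | rfl <;>
      simp [hxi, hyi, mul_assoc, hzx, hzy, hzx', hzy', hzz', hxx', hyy', hyx, hyx', h.zz, h.xx, h.yy]

theorem x_ne_one : x ≠ 1 := fun e => h.z_ne (by rw [← h.xx, e, one_mul])

theorem x_ne_z : x ≠ z := fun e => h.z_ne (by
  have h1 := h.zz
  rw [← e, h.xx] at h1
  exact h1)

theorem y_ne_one : y ≠ 1 := fun e => h.z_ne (by rw [← h.yy, e, one_mul])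

theorem y_ne_z : y ≠ z := fun e => h.z_ne (by
  have h1 := h.zz
  rw [← e, h.yy] at h1
  exact h1)

theorem x_mem : x ∈ Subgroup.closure ({x, y} : Set T) := Subgroup.subset_closure (Set.mem_insert _ _)

theorem y_mem : y ∈ Subgroup.closure ({x, y} : Set T) :=
  Subgroup.subset_closure (Set.mem_insert_of_mem _ rfl)

theorem z_mem : z ∈ Subgroup.closure ({x, y} : Set T) := by
  have h1 := Subgroup.mul_mem _ h.x_mem h.x_mem
  rwa [h.xx] at h1

theorem not_comm : y * x ≠ x * y := fun e => h.z_ne (by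
  have h1 := h.yx
  rw [e, mul_inv_cancel_right] at h1
  exact mul_eq_left.1 h1.symm)

theorem z_mem_centralizer : z ∈ Subgroup.centralizer ({x, y} : Set T) :=
  Subgroup.mem_centralizer_iff.2 fun v _ => h.zc v

theorem sq_cases {q : T} (hq : q ∈ Subgroup.closure ({x, y} : Set T)) :
    (q * q = z) ∨ (q * q = 1 ∧ (q = 1 ∨ q = z)) := by
  have hzx' : ∀ w, z * (x * w) = x * (z * w) := fun w => by rw [← mul_assoc, ← h.zc x, mul_assoc]
  have hzy' : ∀ w, z * (y * w) = y * (z * w) := fun w => by rw [← mul_assoc, ← h.zc y, mul_assoc]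
  have hyx : y * x = x * (y * z) := by rw [mul_inv_eq_iff_eq_mul.1 h.yx, mul_assoc, h.zc y]
  have hyx' : ∀ w, y * (x * w) = x * (y * (z * w)) := fun w => by
    rw [← mul_assoc, hyx, mul_assoc, mul_assoc]
  have hxx' : ∀ w, x * (x * w) = z * w := fun w => by rw [← mul_assoc, h.xx]
  have hyy' : ∀ w, y * (y * w) = z * w := fun w => by rw [← mul_assoc, h.yy]
  have hzz' : ∀ w, z * (z * w) = w := fun w => by rw [← mul_assoc, h.zz, one_mul]
  rcases h.mem_cases hq with e | e | e | e | e | e | e | e <;> rw [e]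
  · exact Or.inr ⟨one_mul 1, Or.inl rfl⟩
  · exact Or.inr ⟨h.zz, Or.inr rfl⟩
  all_goals
    left
    simp [mul_assoc, (h.zc x).symm, (h.zc y).symm, hzx', hzy', hzz', hxx', hyy', hyx', h.zz, h.xx,
      h.yy]

theorem inter_centralizer {q : T} (hq : q ∈ Subgroup.closure ({x, y} : Set T))
    (hc : q ∈ Subgroup.centralizer ({x, y} : Set T)) : q = 1 ∨ q = z := by
  rcases h.sq_cases hq with h1 | h1
  swap
  · exact h1.2
  have hxq : x * q = q * x := Subgroup.mem_centralizer_iff.1 hc x (Set.mem_insert _ _)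
  have hyq : y * q = q * y := Subgroup.mem_centralizer_iff.1 hc y (Set.mem_insert_of_mem _ rfl)
  have hne := h.not_comm
  have hcz : ∀ {v w : T}, v * (w * z) = w * z * v → v * w = w * v := fun {v w} e => by
    rw [← mul_assoc, mul_assoc w z v, ← h.zc v, ← mul_assoc w v z] at e
    exact mul_right_cancel e
  rcases h.mem_cases hq with rfl | rfl | rfl | rfl | rfl | rfl | rfl | rfl
  · exact Or.inl rfl
  · exact Or.inr rfl
  · exact absurd hyq hne
  · exact absurd (hcz hyq) hne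
  · exact absurd hxq.symm hne
  · exact absurd (hcz hxq).symm hne
  · rw [← mul_assoc, mul_assoc x y x] at hxq
    exact absurd (mul_left_cancel (hxq.symm.trans (mul_assoc x x y))) hne
  · have h2 : x * (x * y) = x * y * x := hcz (by rw [mul_assoc x y z]; exact hxq)
    rw [mul_assoc x y x] at h2
    exact absurd (mul_left_cancel h2).symm hne

theorem commute_closure {d q : T} (hd : d ∈ Subgroup.centralizer ({x, y} : Set T))
    (hq : q ∈ Subgroup.closure ({x, y} : Set T)) : d * q = q * d := by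
  have hle : Subgroup.closure ({x, y} : Set T) ≤ Subgroup.centralizer {d} :=
    (Subgroup.closure_le _).2 fun v hv => Subgroup.mem_centralizer_iff.2 fun w hw => by
      rw [Set.mem_singleton_iff.1 hw]
      exact (Subgroup.mem_centralizer_iff.1 hd v hv).symm
  exact Subgroup.mem_centralizer_iff.1 (hle hq) d rfl

theorem decompose (t : T) : ∃ q ∈ Subgroup.closure ({x, y} : Set T),
    ∃ d ∈ Subgroup.centralizer ({x, y} : Set T), t = q * d := by
  obtain ⟨q, hq, d, hdx, hdy, ht⟩ := h.dec t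
  refine ⟨q, hq, d, Subgroup.mem_centralizer_iff.2 ?_, ht⟩
  rintro v (rfl | rfl)
  exacts [hdx.symm, hdy.symm]

theorem closure_normal : (Subgroup.closure ({x, y} : Set T)).Normal := by
  refine ⟨fun v hv t => ?_⟩
  obtain ⟨q, hq, d, hd, rfl⟩ := h.decompose t
  rw [show q * d * v * (q * d)⁻¹ = q * (d * v * d⁻¹) * q⁻¹ by group, h.commute_closure hd hv,
    mul_inv_cancel_right]
  exact Subgroup.mul_mem _ (Subgroup.mul_mem _ hq hv) (Subgroup.inv_mem _ hq)

theorem sq_mem_centralizer (w : T) : ∃ d ∈ Subgroup.centralizer ({x, y} : Set T),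
    w * w = d * d ∨ w * w = z * (d * d) := by
  obtain ⟨q, hq, d, hd, rfl⟩ := h.decompose w
  refine ⟨d, hd, ?_⟩
  have h1 : q * d * (q * d) = q * q * (d * d) := by
    rw [mul_assoc q d, ← mul_assoc d q d, h.commute_closure hd hq]
    simp only [mul_assoc]
  rcases h.sq_cases hq with h2 | ⟨h2, -⟩
  · right; rw [h1, h2]
  · left; rw [h1, h2, one_mul]

theorem eight_le_card [Finite T] (hT : IsPGroup 2 T) :
    8 ≤ Nat.card (Subgroup.closure ({x, y} : Set T)) := by
  classical
  haveI : Fact (Nat.Prime 2) := ⟨Nat.prime_two⟩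
  set Q := Subgroup.closure ({x, y} : Set T) with hQ
  obtain ⟨n, hn⟩ := IsPGroup.iff_card.1 (hT.to_subgroup Q)
  have hyc : ∀ v, v * x = x * v → y ≠ v := fun v hv e => h.not_comm (e ▸ hv)
  have h5 : ({1, z, x, x * z, y} : Finset T).card = 5 := by
    have h1 : x * z ≠ 1 := fun e => h.x_ne_z (by
      rw [eq_inv_of_mul_eq_one_left e, inv_eq_of_mul_eq_one_right h.zz])
    have h2 : x * z ≠ z := fun e => h.x_ne_one (mul_eq_right.1 e)
    have h3 : x * z ≠ x := fun e => h.z_ne (mul_eq_left.1 e)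
    rw [Finset.card_insert_of_notMem, Finset.card_insert_of_notMem, Finset.card_insert_of_notMem,
      Finset.card_insert_of_notMem, Finset.card_singleton] <;>
      simp [h.z_ne, Ne.symm h.z_ne, h.x_ne_one, Ne.symm h.x_ne_one, h.x_ne_z, Ne.symm h.x_ne_z,
        h.y_ne_one, Ne.symm h.y_ne_one, h.y_ne_z, Ne.symm h.y_ne_z, h1, Ne.symm h1, h2, Ne.symm h2,
        h3, Ne.symm h3, Ne.symm (hyc x rfl), Ne.symm (hyc (x * z) (by rw [mul_assoc, ← h.zc x]))]
  have hle : 5 ≤ Nat.card Q := by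
    rw [← h5, ← Nat.card_eq_finsetCard]
    refine Nat.card_le_card_of_injective (fun v => (⟨v.1, ?_⟩ : Q)) fun a b hab =>
      Subtype.ext (congrArg (fun o : Q => (o : T)) hab)
    have hv := v.2
    simp only [Finset.mem_insert, Finset.mem_singleton] at hv
    rcases hv with hv | hv | hv | hv | hv <;> rw [hv]
    exacts [Q.one_mem, h.z_mem, h.x_mem, Q.mul_mem h.x_mem h.z_mem, h.y_mem]
  rw [hn] at hle ⊢
  refine (Nat.pow_le_pow_right (by norm_num) ?_ : 2 ^ 3 ≤ 2 ^ n)
  by_contra hlt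
  have : 2 ^ n ≤ 2 ^ 2 := Nat.pow_le_pow_right (by norm_num) (by omega)
  omega

end Quat

end Local

variable {G : Type u} [Group G] [Finite G]

/-- A 2-group centralising a central element of a Sylow 2-subgroup moves into it, fixing the element. -/
theorem conj_into (P : Sylow 2 G) {z : G} (hz : ∀ t ∈ (P : Subgroup G), t * z = z * t)
    {S : Subgroup G} (hS : IsPGroup 2 S) (hSz : ∀ s ∈ S, s * z = z * s) :
    ∃ n : G, n * z * n⁻¹ = z ∧ ∀ s ∈ S, n * s * n⁻¹ ∈ (P : Subgroup G) := by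
  haveI : Fact (Nat.Prime 2) := ⟨Nat.prime_two⟩
  have hcen : ∀ {s : G}, s * z = z * s → s ∈ Subgroup.centralizer ({z} : Set G) := fun hs =>
    Subgroup.mem_centralizer_iff.2 fun w hw => by rw [Set.mem_singleton_iff.1 hw]; exact hs.symm
  obtain ⟨n, hn, hle⟩ := Fusion.Alperin.exists_conj_le_of_maximal (N := Subgroup.centralizer {z}) P.2
    (fun t ht => hcen (hz t ht)) (fun U hU _ hPU => P.3 hU hPU) hS fun s hs => hcen (hSz s hs)
  refine ⟨n, ?_, fun s hs => hle ?_⟩
  · rw [← Subgroup.mem_centralizer_iff.1 hn z rfl, mul_inv_cancel_right]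
  · rw [Fusion.Alperin.mem_conjS]; simpa [mul_assoc] using hs

namespace Quat

variable {P : Sylow 2 G} {z x y : (P : Subgroup G)} (h : Quat z x y)
include h

/-- A conjugate of `z` in `P` has an extremal conjugating element. -/
theorem exists_extremal {t : (P : Subgroup G)} {k : G} (hk : k * z * k⁻¹ = (t : G)) :
    ∃ g : G, g * t * g⁻¹ = (z : G) ∧
      ∀ v : (P : Subgroup G), v * t = t * v → g * v * g⁻¹ ∈ (P : Subgroup G) := by
  have hkz : k⁻¹ * t * k = (z : G) := by rw [← hk]; group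
  let C : Subgroup G := ((Subgroup.centralizer {t}).map (P : Subgroup G).subtype).map
    (MulAut.conj k⁻¹).toMonoidHom
  obtain ⟨n, hn, hle⟩ := conj_into P (z := (z : G)) (S := C)
    (fun s hs => congrArg Subtype.val (h.zc ⟨s, hs⟩)) (((P.2.to_le (Subgroup.map_subtype_le _))).map _)
    (by
      rintro _ ⟨_, ⟨v, hv, rfl⟩, rfl⟩
      have h1 : (t : G) * v = v * t := congrArg Subtype.val (Subgroup.mem_centralizer_iff.1 hv t rfl)
      simp only [MulEquiv.coe_toMonoidHom, MulAut.conj_apply, inv_inv, Subgroup.coe_subtype, ← hkz]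
      calc k⁻¹ * (v : G) * k * (k⁻¹ * t * k) = k⁻¹ * ((v : G) * t) * k := by group
        _ = k⁻¹ * t * k * (k⁻¹ * v * k) := by rw [← h1]; group)
  refine ⟨n * k⁻¹, ?_, fun v hv => ?_⟩
  · calc n * k⁻¹ * t * (n * k⁻¹)⁻¹ = n * (k⁻¹ * t * k) * n⁻¹ := by group
      _ = z := by rw [hkz, hn]
  · have := hle _ ⟨_, ⟨v, Subgroup.mem_centralizer_iff.2 fun w hw => by
      rw [Set.mem_singleton_iff.1 hw]; exact hv.symm, rfl⟩, rfl⟩
    simp only [MulEquiv.coe_toMonoidHom, MulAut.conj_apply, inv_inv, Subgroup.coe_subtype] at this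
    rwa [show n * k⁻¹ * (v : G) * (n * k⁻¹)⁻¹ = n * (k⁻¹ * v * k) * n⁻¹ by group]

/-- The image of `z` under an extremal element is a square. -/
theorem exists_sq {t : (P : Subgroup G)} {g : G}
    (hg : ∀ v : (P : Subgroup G), v * t = t * v → g * v * g⁻¹ ∈ (P : Subgroup G)) :
    ∃ w : (P : Subgroup G), g * z * g⁻¹ = ((w * w : (P : Subgroup G)) : G) := by
  obtain ⟨q, hq, d, hd, rfl⟩ := h.decompose t
  obtain ⟨v, hv, hvv⟩ : ∃ v : (P : Subgroup G), v * (q * d) = q * d * v ∧ v * v = z := by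
    rcases h.sq_cases hq with h1 | ⟨-, h1⟩
    · exact ⟨q, by rw [mul_assoc q d q, h.commute_closure hd hq], h1⟩
    · refine ⟨x, ?_, h.xx⟩
      rcases h1 with rfl | rfl
      · rw [one_mul, h.commute_closure hd h.x_mem]
      · rw [← mul_assoc, h.zc x, mul_assoc, ← h.commute_closure hd h.x_mem, ← mul_assoc]
  refine ⟨⟨g * v * g⁻¹, hg v hv⟩, ?_⟩
  rw [Subgroup.coe_mul, ← hvv, Subgroup.coe_mul]
  group

/-- Squares into `⟨z, u⟩` after moving: `C_D(t) = ⟨z⟩ N`. -/
theorem fixed_le {A : Subgroup (MulAut (P : Subgroup G))} (hs : Sys A) {t u : (P : Subgroup G)}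
    {C : Subgroup (P : Subgroup G)} (hmemC : ∀ {v}, v * t = t * v → v ∈ C)
    (φ : C →* (P : Subgroup G))
    (hφi : Function.Injective φ) (ht : t ∈ Subgroup.centralizer ({x, y} : Set (P : Subgroup G)))
    (hu : u ∈ Subgroup.centralizer ({x, y} : Set (P : Subgroup G))) (huu : u * u = 1)
    (hφz : ∀ hz, φ ⟨z, hz⟩ = u) (hφt : ∀ htm, φ ⟨t, htm⟩ = z) (htz : t ≠ z) :
    ∀ d ∈ Subgroup.centralizer ({x, y} : Set (P : Subgroup G)), d * t = t * d →
      ∃ hd : d ∈ C,
        φ ⟨d, hd⟩ ∈ Subgroup.closure ({x, y} : Set (P : Subgroup G)) ∨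
        ∃ hd' : z * d ∈ C,
          φ ⟨z * d, hd'⟩ ∈ Subgroup.closure ({x, y} : Set (P : Subgroup G)) := by
  classical
  set Q := Subgroup.closure ({x, y} : Set (P : Subgroup G)) with hQdef
  set D := Subgroup.centralizer ({x, y} : Set (P : Subgroup G)) with hDdef
  haveI hQn : Q.Normal := h.closure_normal
  have hQC : Q ≤ C := fun q hq => hmemC (h.commute_closure ht hq).symm
  have hzC : z ∈ C := hQC h.z_mem
  set Nc : Subgroup C := Q.comap φ with hNc
  haveI : Nc.Normal := hQn.comap φ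
  set Qc : Subgroup C := Q.subgroupOf C with hQc
  haveI : Qc.Normal := inferInstance
  have hinv2 : ∀ v ∈ Nc, v * v = 1 → v = 1 ∨ (v : (P : Subgroup G)) = t := by
    intro v hv hvv
    rcases h.sq_cases hv with h1 | ⟨-, h1 | h1⟩
    · rw [← map_mul, hvv, map_one] at h1; exact absurd h1.symm h.z_ne
    · exact Or.inl (hφi (h1.trans (map_one φ).symm))
    · right
      have htm : t ∈ C := hmemC rfl
      have := hφi (h1.trans (hφt htm).symm)
      rw [this]
  have hzN : (⟨z, hzC⟩ : C) ∉ Nc := fun hm => by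
    rcases hinv2 _ hm (Subtype.ext h.zz) with h1 | h1
    · exact h.z_ne (congrArg Subtype.val h1)
    · exact htz h1.symm
  have hNQ : ∀ v ∈ Nc, (v : (P : Subgroup G)) ∈ Q → v = 1 := by
    intro v hv hvQ
    rcases h.sq_cases hvQ with h1 | ⟨-, h1 | h1⟩
    · exact absurd ((Subtype.ext (a1 := ⟨z, hzC⟩) (a2 := v * v) h1.symm) ▸ Nc.mul_mem hv hv) hzN
    · exact Subtype.ext h1
    · exact absurd ((Subtype.ext (a1 := ⟨z, hzC⟩) (a2 := v) h1.symm) ▸ hv) hzN
  have hND : ∀ v ∈ Nc, (v : (P : Subgroup G)) ∈ D := by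
    intro v hv
    refine Subgroup.mem_centralizer_iff.2 fun q hq => ?_
    have hqQ : q ∈ Q := Subgroup.subset_closure hq
    have h1 := hNQ _ (commutator_mem_of_normal inferInstance (⟨q, hQC hqQ⟩ : C) hv)
      (commutator_mem_symm (commutator_mem_of_normal hQn (v : (P : Subgroup G)) hqQ))
    exact congrArg Subtype.val (commutatorElement_eq_one_iff_mul_comm.1 h1)
  set Zc : Subgroup C := Subgroup.zpowers ⟨z, hzC⟩ with hZc
  have hzcen : ∀ v : C, v * ⟨z, hzC⟩ = ⟨z, hzC⟩ * v := fun v => Subtype.ext (h.zc v.1)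
  haveI : Zc.Normal := ⟨fun w hw v => by
    obtain ⟨i, rfl⟩ := Subgroup.mem_zpowers_iff.1 hw
    rw [((show Commute v ⟨z, hzC⟩ from hzcen v).zpow_right i).eq, mul_inv_cancel_right]
    exact Subgroup.zpow_mem_zpowers _ i⟩
  have hZmem : ∀ w ∈ Zc, w = 1 ∨ w = ⟨z, hzC⟩ := by
    intro w hw
    obtain ⟨i, rfl⟩ := Subgroup.mem_zpowers_iff.1 hw
    have h2 : (⟨z, hzC⟩ : C) ^ (2 : ℤ) = 1 := by
      rw [zpow_two]; exact Subtype.ext h.zz
    rcases Int.even_or_odd i with ⟨j, rfl⟩ | ⟨j, rfl⟩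
    · left; rw [← two_mul, zpow_mul, h2, one_zpow]
    · right; rw [zpow_add, zpow_mul, h2, one_zpow, one_mul, zpow_one]
  set ZN := Zc ⊔ Nc with hZN
  intro d hd hdt
  refine ⟨hmemC hdt, ?_⟩
  suffices hmem : (⟨d, hmemC hdt⟩ : C) ∈ ZN by
    obtain ⟨w, hw, v, hv, hwv⟩ := Subgroup.mem_sup_of_normal_left.1 hmem
    rcases hZmem w hw with rfl | rfl
    · left; rw [← hwv, one_mul]; exact hv
    · right
      refine ⟨C.mul_mem hzC (hmemC hdt), ?_⟩
      have h1 : (⟨z * d, C.mul_mem hzC (hmemC hdt)⟩ : C) = v := by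
        have h2 : (⟨z * d, C.mul_mem hzC (hmemC hdt)⟩ : C) = ⟨z, hzC⟩ * ⟨d, hmemC hdt⟩ := rfl
        rw [h2, ← hwv, ← mul_assoc, show (⟨z, hzC⟩ : C) * ⟨z, hzC⟩ = 1 from Subtype.ext h.zz, one_mul]
      rw [h1]; exact hv
  by_contra hdn
  -- an element of `C_D(t)` outside `ZN` with square inside
  obtain ⟨k, hkD, hkn, hkk⟩ : ∃ k : C, (k : (P : Subgroup G)) ∈ D ∧ k ∉ ZN ∧ k * k ∈ ZN := by
    have hex : ∃ i, (⟨d, hmemC hdt⟩ : C) ^ 2 ^ i ∈ ZN := by
      obtain ⟨n, hn⟩ := hs.pg.to_subgroup C ⟨d, hmemC hdt⟩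
      exact ⟨n, by rw [hn]; exact one_mem _⟩
    have hspec := Nat.find_spec hex
    rcases hm : Nat.find hex with _ | i
    · rw [hm, pow_zero, pow_one] at hspec
      exact absurd hspec hdn
    · refine ⟨(⟨d, hmemC hdt⟩ : C) ^ 2 ^ i, ?_, Nat.find_min hex (by omega), ?_⟩
      · rw [Subgroup.coe_pow]; exact D.pow_mem hd _
      · rw [← pow_two, ← pow_mul, ← pow_succ, ← hm]; exact hspec
  set K' := ZN ⊔ Subgroup.zpowers k with hK'
  have hZND : ∀ v ∈ ZN, (v : (P : Subgroup G)) ∈ D := by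
    intro v hv
    obtain ⟨w, hw, v', hv', rfl⟩ := Subgroup.mem_sup_of_normal_left.1 hv
    rw [Subgroup.coe_mul]
    refine D.mul_mem ?_ (hND v' hv')
    rcases hZmem w hw with rfl | rfl
    exacts [D.one_mem, h.z_mem_centralizer]
  have hK'D : ∀ v ∈ K', (v : (P : Subgroup G)) ∈ D := fun v hv =>
    (sup_le (fun w hw => hZND w hw) (Subgroup.zpowers_le.2 hkD) : K' ≤ D.subgroupOf C) hv
  have hK'sq : ∀ v ∈ K', v * v ∈ ZN := by
    intro v hv
    obtain ⟨l, hl, w, hw, rfl⟩ := Subgroup.mem_sup_of_normal_left.1 hv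
    obtain ⟨i, rfl⟩ := Subgroup.mem_zpowers_iff.1 hw
    rw [show l * k ^ i * (l * k ^ i) = l * (k ^ i * l * (k ^ i)⁻¹) * (k ^ i * k ^ i) by group,
      ← (Commute.refl k).mul_zpow]
    exact ZN.mul_mem (ZN.mul_mem hl ((inferInstance : ZN.Normal).conj_mem l hl _)) (ZN.zpow_mem hkk i)
  -- orders
  have hsysC : ∀ {U V : Subgroup C}, U ≤ V → U ≠ V → 2 * Nat.card U ≤ Nat.card V := by
    intro U V hUV hne
    haveI : Fact (Nat.Prime 2) := ⟨Nat.prime_two⟩
    obtain ⟨a, ha⟩ := IsPGroup.iff_card.1 ((hs.pg.to_subgroup C).to_subgroup U)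
    obtain ⟨b, hb⟩ := IsPGroup.iff_card.1 ((hs.pg.to_subgroup C).to_subgroup V)
    have hlt : Nat.card U < Nat.card V := lt_of_not_ge fun hge =>
      hne (Subgroup.eq_of_le_of_card_ge hUV hge)
    rw [ha, hb] at hlt ⊢
    rw [← pow_succ']
    exact Nat.pow_le_pow_right (by norm_num) ((Nat.pow_lt_pow_iff_right (by norm_num)).1 hlt)
  have h1 : 2 * Nat.card Nc ≤ Nat.card ZN := hsysC le_sup_right fun e =>
    hzN (e.ge (Subgroup.mem_sup_left (Subgroup.mem_zpowers _)))
  have h2 : 2 * Nat.card ZN ≤ Nat.card K' := hsysC le_sup_left fun e =>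
    hkn (e.ge (Subgroup.mem_sup_right (Subgroup.mem_zpowers k)))
  set π := QuotientGroup.mk' Q with hπ
  set πc := π.comp C.subtype with hπc
  have hker : πc.ker = Qc := by rw [hπc, ← MonoidHom.comap_ker, QuotientGroup.ker_mk']; rfl
  have hK'Q : Nat.card ↥(K' ⊓ Qc) ≤ 2 := by
    have hle : K' ⊓ Qc ≤ Zc := fun v ⟨hv, hvQ⟩ => by
      rcases h.inter_centralizer hvQ (hK'D v hv) with e | e
      · rw [show v = 1 from Subtype.ext e]; exact one_mem _
      · rw [show v = ⟨z, hzC⟩ from Subtype.ext e]; exact Subgroup.mem_zpowers _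
    refine (Subgroup.card_le_of_le hle).trans ?_
    rw [Nat.card_zpowers]
    exact Nat.le_of_dvd two_pos (orderOf_dvd_of_pow_eq_one (by rw [pow_two]; exact Subtype.ext h.zz))
  have h3 := NormalRankTwo.card_map_mul_card_inf_ker πc K'
  rw [hker] at h3
  set Rc := Qc ⊔ K' with hRc
  have hmapRc : Rc.map πc = K'.map πc := by
    rw [hRc, Subgroup.map_sup, (Subgroup.map_eq_bot_iff _).2 hker.ge, bot_sup_eq]
  have h4 := NormalRankTwo.card_map_mul_card_inf_ker πc Rc
  rw [hker, hmapRc, inf_eq_right.2 (le_sup_left : Qc ≤ Rc),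
    Nat.card_congr (Subgroup.subgroupOfEquivOfLe hQC).toEquiv] at h4
  set R : Subgroup (P : Subgroup G) := Rc.map φ with hR
  have h5 := NormalRankTwo.card_map_mul_card_inf_ker π R
  rw [QuotientGroup.ker_mk', Subgroup.card_map_of_injective hφi] at h5
  have hRQ : Nat.card ↥(R ⊓ Q) ≤ Nat.card Nc := by
    have hle : R ⊓ Q ≤ Nc.map φ := by
      rintro _ ⟨⟨v, -, rfl⟩, hvQ⟩
      exact ⟨v, hvQ, rfl⟩
    exact (Subgroup.card_le_of_le hle).trans (Subgroup.card_map_of_injective hφi).le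
  have h6 := NormalRankTwo.card_map_mul_card_inf_ker π (Q ⊔ R)
  rw [QuotientGroup.ker_mk', inf_eq_right.2 (le_sup_left : Q ≤ Q ⊔ R), Subgroup.map_sup,
    (Subgroup.map_eq_bot_iff _).2 (QuotientGroup.ker_mk' Q).ge, bot_sup_eq] at h6
  -- squares
  set N' := Subgroup.zpowers z ⊔ Subgroup.zpowers u with hN'
  haveI : (Subgroup.zpowers z).Normal := ⟨fun w hw v => by
    obtain ⟨i, rfl⟩ := Subgroup.mem_zpowers_iff.1 hw
    rw [((show Commute v z from h.zc v).zpow_right i).eq, mul_inv_cancel_right]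
    exact Subgroup.zpow_mem_zpowers _ i⟩
  have hN'c : Nat.card N' ≤ 4 := by
    have hbool : ∀ {w : (P : Subgroup G)}, w * w = 1 → ∀ v ∈ Subgroup.zpowers w, v = 1 ∨ v = w := by
      intro w hw v hv
      obtain ⟨i, rfl⟩ := Subgroup.mem_zpowers_iff.1 hv
      have h2 : w ^ (2 : ℤ) = 1 := by rw [zpow_two]; exact hw
      rcases Int.even_or_odd i with ⟨j, rfl⟩ | ⟨j, rfl⟩
      · left; rw [← two_mul, zpow_mul, h2, one_zpow]
      · right; rw [zpow_add, zpow_mul, h2, one_zpow, one_mul, zpow_one]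
    let f : Bool × Bool → N' := fun b =>
      ⟨(if b.1 then z else 1) * (if b.2 then u else 1), by
        refine Subgroup.mul_mem _ (Subgroup.mem_sup_left ?_) (Subgroup.mem_sup_right ?_)
        · split <;> [exact Subgroup.mem_zpowers z; exact one_mem _]
        · split <;> [exact Subgroup.mem_zpowers u; exact one_mem _]⟩
    refine (Nat.card_le_card_of_surjective f ?_).trans (by simp)
    rintro ⟨v, hv⟩
    obtain ⟨a, ha, b, hb, rfl⟩ := Subgroup.mem_sup_of_normal_left.1 hv
    rcases hbool h.zz a ha with rfl | rfl <;> rcases hbool huu b hb with rfl | rfl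
    · exact ⟨(false, false), Subtype.ext (by simp [f])⟩
    · exact ⟨(false, true), Subtype.ext (by simp [f])⟩
    · exact ⟨(true, false), Subtype.ext (by simp [f])⟩
    · exact ⟨(true, true), Subtype.ext (by simp [f])⟩
  have hsq : ∀ v ∈ Q ⊔ R, v ^ 2 ∈ N' := by
    intro v hv
    obtain ⟨q, hq, r, hr, rfl⟩ := Subgroup.mem_sup_of_normal_left.1 hv
    obtain ⟨q₁, hq₁, d₁, hd₁, rfl⟩ := h.decompose r
    have hmul : ∀ {p : (P : Subgroup G)}, p ∈ Q → (p * d₁) * (p * d₁) = (p * p) * (d₁ * d₁) := by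
      intro p hp
      rw [mul_assoc p d₁, ← mul_assoc d₁ p d₁, h.commute_closure hd₁ hp]
      simp only [mul_assoc]
    have hzQ : ∀ {p : (P : Subgroup G)}, p ∈ Q → p * p ∈ N' := fun hp => by
      rcases h.sq_cases hp with e | ⟨e, -⟩
      · rw [e]; exact Subgroup.mem_sup_left (Subgroup.mem_zpowers z)
      · rw [e]; exact N'.one_mem
    suffices hd₁2 : d₁ * d₁ ∈ N' by
      rw [pow_two, ← mul_assoc q q₁ d₁, hmul (Q.mul_mem hq hq₁)]
      exact N'.mul_mem (hzQ (Q.mul_mem hq hq₁)) hd₁2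
    -- the square of `r` is `1` or `u` modulo `Q`
    obtain ⟨c, hc, hrc⟩ := hr
    obtain ⟨p, hp, k', hk', rfl⟩ := Subgroup.mem_sup_of_normal_left.1 hc
    have hpk : p * k' = k' * p := Subtype.ext (h.commute_closure (hK'D k' hk') hp).symm
    have hcc : p * k' * (p * k') = (p * p) * (k' * k') := by
      rw [mul_assoc p k', ← mul_assoc k' p k', ← hpk]
      simp only [mul_assoc]
    have hpp : p * p ∈ Zc := by
      rcases h.sq_cases hp with e | ⟨e, -⟩
      · rw [show p * p = ⟨z, hzC⟩ from Subtype.ext e]; exact Subgroup.mem_zpowers _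
      · rw [show p * p = 1 from Subtype.ext e]; exact one_mem _
    have hcZN : p * k' * (p * k') ∈ ZN := by
      rw [hcc]; exact ZN.mul_mem (Subgroup.mem_sup_left hpp) (hK'sq k' hk')
    obtain ⟨w, hw, v, hv, hwv⟩ := Subgroup.mem_sup_of_normal_left.1 hcZN
    have hφw : φ w ∈ N' ∧ φ w ∈ D := by
      rcases hZmem w hw with rfl | rfl
      · rw [map_one]; exact ⟨N'.one_mem, D.one_mem⟩
      · rw [hφz]; exact ⟨Subgroup.mem_sup_right (Subgroup.mem_zpowers u), hu⟩
    have hr2 : (q₁ * q₁) * (d₁ * d₁) = φ w * φ v := by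
      rw [← hmul hq₁, ← hrc, ← map_mul, ← map_mul, hwv]
    have hdd : d₁ * d₁ = (q₁ * q₁)⁻¹ * (φ w * φ v) := by rw [← hr2, inv_mul_cancel_left]
    have hq₁D : q₁ * q₁ ∈ D := by
      rcases h.sq_cases hq₁ with e | ⟨e, -⟩
      · rw [e]; exact h.z_mem_centralizer
      · rw [e]; exact D.one_mem
    have hφvD : φ v ∈ D := by
      have e : φ v = (φ w)⁻¹ * ((q₁ * q₁) * (d₁ * d₁)) := by rw [hr2, inv_mul_cancel_left]
      rw [e]; exact D.mul_mem (D.inv_mem hφw.2) (D.mul_mem hq₁D (D.mul_mem hd₁ hd₁))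
    rw [hdd]
    refine N'.mul_mem (N'.inv_mem (hzQ hq₁)) (N'.mul_mem hφw.1 ?_)
    rcases h.inter_centralizer hv hφvD with e | e
    · rw [e]; exact N'.one_mem
    · rw [e]; exact Subgroup.mem_sup_left (Subgroup.mem_zpowers z)
  have h7 := hs.card_le_of_sq hsq
  have h8 := h.eight_le_card hs.pg
  have e1 : 2 * Nat.card Nc ≤ Nat.card ↥(K'.map πc) := by
    by_contra hlt
    have := Nat.mul_le_mul_left (Nat.card ↥(K'.map πc)) hK'Q
    omega
  have e2 : 16 ≤ Nat.card ↥(R.map π) := by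
    by_contra hlt
    have h9 : Nat.card ↥(R.map π) * Nat.card ↥(R ⊓ Q) < 16 * Nat.card Nc :=
      lt_of_le_of_lt (Nat.mul_le_mul_left _ hRQ)
        (Nat.mul_lt_mul_of_pos_right (by omega) Nat.card_pos)
    have h10 : 2 * Nat.card Nc * 8 ≤ Nat.card ↥(K'.map πc) * Nat.card Q := Nat.mul_le_mul e1 h8
    omega
  have h11 : 16 * 8 ≤ Nat.card ↥(R.map π) * Nat.card Q := Nat.mul_le_mul e2 h8
  omega

/-- No conjugate of `z` other than `z` lies in `P`. -/
theorem eq_of_conj {A : Subgroup (MulAut (P : Subgroup G))} (hs : Sys A)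
    (hfix : ∀ n ∈ Subgroup.normalizer ((P : Subgroup G) : Set G), n * z * n⁻¹ = (z : G))
    {t : (P : Subgroup G)} (k : G) (hk : k * z * k⁻¹ = (t : G)) : t = z := by
  classical
  by_contra htz
  haveI : Fact (Nat.Prime 2) := ⟨Nat.prime_two⟩
  -- pass to a conjugate centralising `x` and `y` which is a square
  obtain ⟨t, k, hk, htz, d₀, hd₀, hd₀t⟩ : ∃ (t : (P : Subgroup G)) (k : G),
      k * z * k⁻¹ = (t : G) ∧ t ≠ z ∧
        ∃ d ∈ Subgroup.centralizer ({x, y} : Set (P : Subgroup G)), t = d * d ∨ t = z * (d * d) := by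
    obtain ⟨g, hg, hgle⟩ := h.exists_extremal hk
    obtain ⟨w, hw⟩ := h.exists_sq hgle
    refine ⟨w * w, g, hw, fun e => htz ?_, h.sq_mem_centralizer w⟩
    rw [e, ← hg] at hw
    have := mul_left_cancel (mul_right_cancel hw)
    exact (Subtype.ext (this.symm.trans hg))
  set D := Subgroup.centralizer ({x, y} : Set (P : Subgroup G)) with hD
  have htD : t ∈ D := by
    rcases hd₀t with e | e <;> rw [e]
    · exact D.mul_mem hd₀ hd₀
    · exact D.mul_mem h.z_mem_centralizer (D.mul_mem hd₀ hd₀)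
  have htt : t * t = 1 := Subtype.ext (by
    rw [Subgroup.coe_mul, Subgroup.coe_one, ← hk,
      show k * (z : G) * k⁻¹ * (k * z * k⁻¹) = k * ((z * z : (P : Subgroup G)) : G) * k⁻¹ by
        rw [Subgroup.coe_mul]; group, h.zz]
    simp)
  obtain ⟨g, hg, hgle⟩ := h.exists_extremal hk
  set C := Subgroup.centralizer ({t} : Set (P : Subgroup G)) with hC
  let φ : C →* (P : Subgroup G) := MonoidHom.mk'
    (fun v => ⟨g * (v : (P : Subgroup G)) * g⁻¹, hgle v
      (Subgroup.mem_centralizer_iff.1 v.2 t rfl).symm⟩)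
    fun v w => Subtype.ext (by simp only [Subgroup.coe_mul]; group)
  have hφi : Function.Injective φ := fun v w e =>
    Subtype.ext (Subtype.ext (mul_left_cancel (mul_right_cancel (congrArg Subtype.val e))))
  obtain ⟨w, hw⟩ := h.exists_sq hgle
  obtain ⟨d, hd, hdw⟩ := h.sq_mem_centralizer w
  have hu : w * w ∈ D := by
    rcases hdw with e | e <;> rw [e]
    · exact D.mul_mem hd hd
    · exact D.mul_mem h.z_mem_centralizer (D.mul_mem hd hd)
  have huu : w * w * (w * w) = 1 := Subtype.ext (by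
    rw [Subgroup.coe_mul, Subgroup.coe_one, ← hw,
      show g * (z : G) * g⁻¹ * (g * z * g⁻¹) = g * ((z * z : (P : Subgroup G)) : G) * g⁻¹ by
        rw [Subgroup.coe_mul]; group, h.zz]
    simp)
  have key := h.fixed_le hs (C := C) (fun hv => Subgroup.mem_centralizer_iff.2 fun a ha => by
    rw [Set.mem_singleton_iff.1 ha]; exact hv.symm) φ hφi htD hu huu (fun _ => Subtype.ext hw) (fun _ => Subtype.ext hg) htz
  -- the only involution of `N` is `t`
  have hN : ∀ v : C, φ v ∈ Subgroup.closure ({x, y} : Set (P : Subgroup G)) → v * v = 1 → v ≠ 1 →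
      (v : (P : Subgroup G)) = t := by
    intro v hv hvv hv1
    rcases h.sq_cases hv with h1 | ⟨-, h1 | h1⟩
    · rw [← map_mul, hvv, map_one] at h1; exact absurd h1.symm h.z_ne
    · exact absurd (hφi (h1.trans (map_one φ).symm)) hv1
    · have htm : t ∈ C := Subgroup.mem_centralizer_iff.2 fun a ha => by rw [Set.mem_singleton_iff.1 ha]
      have : v = ⟨t, htm⟩ := hφi (h1.trans (Subtype.ext hg.symm : z = φ ⟨t, htm⟩))
      rw [this]
  -- squares in `C_D(t)`
  have hsq : ∀ d ∈ D, d * t = t * d → (d * d) * (d * d) = 1 → d * d ≠ 1 → d * d = t := by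
    intro d hd hdt h4 h2
    obtain ⟨hdC, h1⟩ := key d hd hdt
    rcases h1 with h1 | ⟨hdC', h1⟩
    · exact hN (⟨d, hdC⟩ * ⟨d, hdC⟩) (by rw [map_mul]; exact mul_mem h1 h1) (Subtype.ext h4)
        fun e => h2 (congrArg Subtype.val e)
    · have e : z * d * (z * d) = d * d := by
        rw [← mul_assoc, mul_assoc z d z, h.zc d, ← mul_assoc z z d, h.zz, one_mul]
      rw [← e] at h4 h2 ⊢
      exact hN (⟨z * d, hdC'⟩ * ⟨z * d, hdC'⟩) (by rw [map_mul]; exact mul_mem h1 h1)
        (Subtype.ext h4) fun e => h2 (congrArg Subtype.val e)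
  have ht1 : t ≠ 1 := fun e => h.z_ne (by
    rw [e, Subgroup.coe_one] at hk
    exact Subtype.ext (conj_eq_one_iff.1 hk))
  have hd₀C : d₀ * t = t * d₀ := by
    rcases hd₀t with e | e <;> rw [e]
    · simp only [mul_assoc]
    · rw [← mul_assoc, h.zc d₀]; simp only [mul_assoc]
  have ht0 : d₀ * d₀ = t := by
    refine hsq d₀ hd₀ hd₀C ?_ ?_
    · rcases hd₀t with e | e
      · rw [← e]; exact htt
      · have e' : d₀ * d₀ = z * t := by rw [e, ← mul_assoc, h.zz, one_mul]
        rw [e', ← mul_assoc, mul_assoc z t z, h.zc t, ← mul_assoc z z t, h.zz, one_mul, htt]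
    · intro e1
      rcases hd₀t with e | e
      · exact ht1 (e.trans e1)
      · exact htz (by rw [e, e1, mul_one])
  -- so `C_D(t)` is self-normalising in `D`
  have hnorm : ∀ e ∈ D, (∀ d ∈ D, d * t = t * d → e * d * e⁻¹ * t = t * (e * d * e⁻¹)) →
      e * t = t * e := by
    intro e he hne
    have h1 : e * t * e⁻¹ = (e * d₀ * e⁻¹) * (e * d₀ * e⁻¹) := by rw [← ht0]; group
    have h2 := hsq _ (D.mul_mem (D.mul_mem he hd₀) (D.inv_mem he)) (hne d₀ hd₀ hd₀C)
      (by rw [← h1, conj_mul, htt, mul_one, mul_inv_cancel])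
      (by rw [← h1]; exact fun e2 => ht1 (conj_eq_one_iff.1 e2))
    exact mul_inv_eq_iff_eq_mul.1 (h1.trans h2)
  have htc : ∀ v : (P : Subgroup G), v * t = t * v := by
    haveI : Group.IsNilpotent D := (hs.pg.to_subgroup D).isNilpotent
    have htop : C.subgroupOf D = ⊤ := by
      by_contra hne
      obtain ⟨e, he, he'⟩ := SetLike.exists_of_lt
        (Group.normalizerCondition_of_isNilpotent _ (lt_top_iff_ne_top.2 hne))
      refine he' ?_
      have hCm : ∀ {v : (P : Subgroup G)}, v * t = t * v → v ∈ C := fun hv =>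
        Subgroup.mem_centralizer_iff.2 fun a ha => by rw [Set.mem_singleton_iff.1 ha]; exact hv.symm
      refine hCm (hnorm e e.2 fun d hd hdt => ?_)
      exact (Subgroup.mem_centralizer_iff.1
        ((Subgroup.mem_normalizer_iff.1 he ⟨d, hd⟩).1 (hCm hdt)) t rfl).symm
    intro v
    obtain ⟨q, hq, d, hd, rfl⟩ := h.decompose v
    have h1 : d * t = t * d :=
      (Subgroup.mem_centralizer_iff.1 (htop.ge (Subgroup.mem_top (⟨d, hd⟩ : D))) t rfl).symm
    rw [mul_assoc, h1, ← mul_assoc, ← h.commute_closure htD hq, mul_assoc]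
  -- Burnside
  obtain ⟨n, hn, himg⟩ := Transfer.Fusion.exists_normalizer_conj_of_normal_set P ({(z : G)} : Set G)
    (fun v hv a ha => by
      rw [Set.mem_singleton_iff.1 ha, Set.mem_singleton_iff]
      have := congrArg Subtype.val (h.zc ⟨v, hv⟩)
      simp only [Subgroup.coe_mul] at this
      rw [this, mul_inv_cancel_right]) k
    (fun v hv a ha => by
      rw [Set.mem_singleton_iff.1 ha, Set.image_singleton, Set.mem_singleton_iff, hk]
      have := congrArg Subtype.val (htc ⟨v, hv⟩)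
      simp only [Subgroup.coe_mul] at this
      rw [this, mul_inv_cancel_right])
  rw [Set.image_singleton, Set.image_singleton, Set.singleton_eq_singleton_iff, hfix n hn, hk] at himg
  exact htz (Subtype.ext himg.symm)

/-- In a nonabelian simple group there is no such configuration. -/
theorem false_of_simple [IsSimpleGroup G] (hFT : FTDeps.Basic.OddOrderSolvable.{u})
    (hna : ¬ IsMulCommutative G) {A : Subgroup (MulAut (P : Subgroup G))} (hs : Sys A)
    (hfix : ∀ n ∈ Subgroup.normalizer ((P : Subgroup G) : Set G), n * z * n⁻¹ = (z : G)) : False := by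
  haveI : Fact (Nat.Prime 2) := ⟨Nat.prime_two⟩
  have hord : orderOf (z : G) = 2 := orderOf_eq_prime
    (by rw [pow_two]; exact congrArg Subtype.val h.zz)
    fun e => h.z_ne (Subtype.ext e)
  refine FTDeps.Row0516.not_isolated hFT hna (z : G) ⟨hord, fun g hc => ?_⟩
  set w := g * (z : G) * g⁻¹ with hw
  have hS : IsPGroup 2 (Subgroup.zpowers w) := IsPGroup.of_card (n := 1) (by
    rw [Nat.card_zpowers, pow_one, ← hord]
    exact MulEquiv.orderOf_eq (MulAut.conj g) (z : G))
  obtain ⟨n, hn, hle⟩ := conj_into P (z := (z : G)) (fun s hs => congrArg Subtype.val (h.zc ⟨s, hs⟩))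
    hS (fun s hs => by
      obtain ⟨i, rfl⟩ := Subgroup.mem_zpowers_iff.1 hs
      exact (hc.symm.zpow_left i).eq)
  have h1 := h.eq_of_conj hs hfix (t := ⟨n * w * n⁻¹, hle w (Subgroup.mem_zpowers w)⟩) (n * g)
    (show n * g * (z : G) * (n * g)⁻¹ = n * w * n⁻¹ by rw [hw]; group)
  have h2 : n * w * n⁻¹ = (z : G) := congrArg Subtype.val h1
  exact mul_left_cancel (mul_right_cancel (h2.trans hn.symm))

end Quat

end Cfsg.Agent.Lib.NormRankTwoAuto23
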