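import Cfsg.Agent.Lib.NormRankTwoAuto23.Small
import Cfsg.Agent.Lib.NormRankTwoAuto23.Abelian
import Cfsg.Agent.Lib.NormRankTwoAuto23.Four
import Cfsg.Agent.Lib.NormRankTwoAuto23.Quat
import Cfsg.Agent.Lib.Fusion.Thompson

/-!
# Simple groups with a Sylow 2-subgroup of normal rank two and an odd automorphism in its normalizer
-/

set_option autoImplicit false
set_option linter.unusedSectionVars false
set_option linter.style.haveILetI false

namespace Cfsg.Agent.Lib.NormRankTwoAuto23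

open scoped commutatorElement

universe u

variable {G : Type u} [Group G] [Finite G]

theorem no_index_two [IsSimpleGroup G] (hna : ¬ IsMulCommutative G) (N : Subgroup G) : N.index ≠ 2 := by
  intro hN
  rcases IsSimpleGroup.eq_bot_or_eq_top_of_normal N (Subgroup.normal_of_index_eq_two hN) with e | e
  · rw [e, Subgroup.index_bot] at hN
    haveI : Fact (Nat.Prime 2) := ⟨Nat.prime_two⟩
    haveI : IsCyclic G := isCyclic_of_prime_card hN
    exact hna IsCyclic.isMulCommutative
  · rw [e, Subgroup.index_top] at hN; omega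

/-- The case `|T : [T, A]| = 2` does not occur in a simple group. -/
theorem not_inverted (P : Sylow 2 G) (hG : ∀ N : Subgroup G, N.index ≠ 2)
    {X : Subgroup (P : Subgroup G)} {c : (P : Subgroup G)} (h : Inverted X c) : False := by
  classical
  haveI : Fact (Nat.Prime 2) := ⟨Nat.prime_two⟩
  have hc1 : c ≠ 1 := fun e => h.not_mem (e ▸ X.one_mem)
  have hidx : X.index = 2 := by
    have h2 : X.index ≤ 2 := by
      rw [Subgroup.index_eq_card]
      refine (Nat.card_le_card_of_surjective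
        (fun o : Bool => if o then (QuotientGroup.mk c : (P : Subgroup G) ⧸ X) else QuotientGroup.mk 1)
        ?_).trans (by simp)
      intro q
      induction q using QuotientGroup.induction_on with
      | H t =>
        rcases h.cover t with ht | ht
        · exact ⟨false, QuotientGroup.eq.2 (by simpa using ht)⟩
        · exact ⟨true, QuotientGroup.eq.2 ht⟩
    have h3 : X.index ≠ 1 := fun e => h.not_mem (Subgroup.index_eq_one.1 e ▸ Subgroup.mem_top c)
    have h4 : X.index ≠ 0 := Subgroup.index_ne_zero_of_finite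
    omega
  haveI hXn : X.Normal := Subgroup.normal_of_index_eq_two hidx
  -- `c` is fused into `X`
  have hoc : orderOf (c : G) = 2 := orderOf_eq_prime
    (by rw [pow_two]; exact congrArg Subtype.val h.cc) fun e => hc1 (Subtype.ext e)
  obtain ⟨g, hg⟩ := Fusion.Thompson.exists_conj_mem_maximal P (X.map (P : Subgroup G).subtype)
    (Subgroup.map_subtype_le X) (by
      rw [Subgroup.relIndex, ← Subgroup.comap_subtype,
        Subgroup.comap_map_eq_self_of_injective (P : Subgroup G).subtype_injective, hidx]) hG (c : G) hoc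
  obtain ⟨z, hzX, hz⟩ := hg
  have hz2 : z ^ 2 = 1 := Subtype.ext (by
    rw [Subgroup.coe_pow, show (z : G) = g * c * g⁻¹ from hz, conj_pow, pow_two,
      show (c : G) * c = 1 from congrArg Subtype.val h.cc]
    simp)
  have hzc : ∀ t : (P : Subgroup G), t * z = z * t := h.central z hzX hz2
  have hcE : ∀ {e}, e ∈ omega h.comm → ∀ t : (P : Subgroup G), t * e = e * t :=
    fun he => h.central _ he.1 he.2
  set E := omega h.comm with hE
  -- move `E` into `P` too
  let S : Subgroup G := (E.map (P : Subgroup G).subtype).map (MulAut.conj g).toMonoidHom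
  obtain ⟨n, hn, hle⟩ := conj_into P (z := (z : G)) (S := S)
    (fun t ht => congrArg Subtype.val (hzc ⟨t, ht⟩)) ((P.2.to_le (Subgroup.map_subtype_le E)).map _) (by
      rintro _ ⟨_, ⟨e, he, rfl⟩, rfl⟩
      simp only [MulEquiv.coe_toMonoidHom, MulAut.conj_apply, Subgroup.coe_subtype,
        show (z : G) = g * c * g⁻¹ from hz]
      have h1 : (c : G) * e = e * c := congrArg Subtype.val (hcE he c)
      calc g * (e : G) * g⁻¹ * (g * c * g⁻¹) = g * ((e : G) * c) * g⁻¹ := by group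
        _ = g * c * g⁻¹ * (g * e * g⁻¹) := by rw [← h1]; group)
  set k := n * g with hk
  have hkc : k * c * k⁻¹ = (z : G) := by
    rw [hk, show n * g * (c : G) * (n * g)⁻¹ = n * (g * c * g⁻¹) * n⁻¹ by group,
      ← show (z : G) = g * c * g⁻¹ from hz, hn]
  have hθ : ∀ e ∈ E, k * (e : G) * k⁻¹ ∈ (P : Subgroup G) := fun e he => by
    rw [hk, show n * g * (e : G) * (n * g)⁻¹ = n * (g * e * g⁻¹) * n⁻¹ by group]
    exact hle _ ⟨_, ⟨e, he, rfl⟩, rfl⟩
  let θ : E →* (P : Subgroup G) := MonoidHom.mk' (fun e => ⟨k * (e : (P : Subgroup G)) * k⁻¹, hθ e e.2⟩)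
    fun a b => Subtype.ext (by simp only [Subgroup.coe_mul]; group)
  have hθi : Function.Injective θ := fun a b e =>
    Subtype.ext (Subtype.ext (mul_left_cancel (mul_right_cancel (congrArg Subtype.val e))))
  have hθ2 : ∀ e : E, θ e * θ e = 1 := fun e => by
    rw [← map_mul, show e * e = 1 from Subtype.ext (by rw [Subgroup.coe_mul, ← pow_two]; exact e.2.2),
      map_one]
  have hmemE : ∀ {v : (P : Subgroup G)}, v ∈ X → v * v = 1 → v ∈ E :=
    fun hv hv2 => ⟨hv, by rw [pow_two]; exact hv2⟩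
  -- an element of the image outside `E`, and one inside
  obtain ⟨ea, hea⟩ : ∃ e : E, θ e ∉ E := by
    by_contra hcon
    push Not at hcon
    have hsurj : Function.Surjective (fun e : E => (⟨θ e, hcon e⟩ : E)) :=
      (Finite.injective_iff_surjective).1 fun a b hab =>
        hθi (congrArg (fun o : E => (o : (P : Subgroup G))) hab)
    obtain ⟨e, he⟩ := hsurj ⟨z, hzX, hz2⟩
    have h1 : k * ((e : (P : Subgroup G)) : G) * k⁻¹ = (z : G) :=
      congrArg (fun o : E => ((o : (P : Subgroup G)) : G)) he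
    have h2 : (e : (P : Subgroup G)) = c :=
      Subtype.ext (mul_left_cancel (mul_right_cancel (h1.trans hkc.symm)))
    exact h.not_mem (h2 ▸ e.2.1)
  set a := θ ea with ha
  have haX : a ∉ X := fun hm => hea (hmemE hm (hθ2 ea))
  obtain ⟨ew, hew, hew1⟩ : ∃ e : E, θ e ∈ E ∧ e ≠ 1 := by
    by_contra hcon
    push Not at hcon
    have hall : ∀ e : E, e = 1 ∨ e = ea := by
      intro e
      by_cases he : θ e ∈ X
      · exact Or.inl (hcon e (hmemE he (hθ2 e)))
      · right
        have h1 : θ e * a ∈ X := (Subgroup.mul_mem_iff_of_index_two hidx).2 (iff_of_false he haX)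
        rw [ha, ← map_mul] at h1
        have h2 := hcon (e * ea) (hmemE h1 (hθ2 _))
        rw [eq_inv_of_mul_eq_one_left h2]
        exact inv_eq_of_mul_eq_one_right (hθi ((map_mul θ ea ea).trans ((hθ2 ea).trans (map_one θ).symm)))
    have hinj : Function.Injective (fun e : E => decide (θ e = 1)) := by
      intro p q hpq
      have h1 : (θ p = 1 ↔ θ q = 1) := decide_eq_decide.1 hpq
      have hea1 : θ ea ≠ 1 := fun e => haX (ha ▸ e ▸ X.one_mem)
      rcases hall p with rfl | rfl <;> rcases hall q with rfl | rfl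
      · rfl
      · exact absurd (h1.1 (map_one θ)) hea1
      · exact absurd (h1.2 (map_one θ)) hea1
      · rfl
    have := Nat.card_le_card_of_injective _ hinj
    rw [h.card_omega, Nat.card_eq_fintype_card, Fintype.card_bool] at this
    omega
  set w := θ ew with hw
  have hw1 : w ≠ 1 := fun e => hew1 (hθi (e.trans (map_one θ).symm))
  -- roots
  obtain ⟨r, hr, hrw⟩ := h.roots w hew.1 hew.2
  obtain ⟨r', hr', hrw'⟩ := h.roots ea ea.2.1 ea.2.2
  set U := r ^ 2 with hU
  set U' := r' ^ 2 with hU'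
  have hUX : U ∈ X := X.pow_mem hr 2
  have haU : U * a * U⁻¹ = w * a := by
    obtain ⟨x, hx, hax⟩ : ∃ x ∈ X, a = c * x :=
      ⟨c⁻¹ * a, (h.cover a).resolve_left haX, (mul_inv_cancel_left c a).symm⟩
    have h1 : a * U * a⁻¹ = U⁻¹ := by
      rw [hax, show c * x * U * (c * x)⁻¹ = c * (x * U * x⁻¹) * c⁻¹ by group, h.comm x hx U hUX,
        mul_inv_cancel_right]
      exact h.inverts r hr
    calc U * a * U⁻¹ = U * (a * U * a⁻¹)⁻¹ * a := by group
      _ = w * a := by rw [h1, inv_inv, ← pow_two, hrw]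
  have hcU : U' * c * U'⁻¹ = ea * c := by
    calc U' * c * U'⁻¹ = U' * (c * U' * c⁻¹)⁻¹ * c := by group
      _ = ea * c := by rw [hU', h.inverts r' hr', inv_inv, ← pow_two, hrw']
  -- in `G`
  set v : G := k * U' * k⁻¹ with hv
  have hvz : v * z * v⁻¹ = (a : G) * z := by
    rw [← hkc, hv, show k * (U' : G) * k⁻¹ * (k * c * k⁻¹) * (k * U' * k⁻¹)⁻¹ =
      k * ((U' : G) * c * (U' : G)⁻¹) * k⁻¹ by group]
    have h1 : (U' : G) * c * (U' : G)⁻¹ = (ea : (P : Subgroup G)) * (c : G) := congrArg Subtype.val hcU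
    rw [h1, show (a : G) = k * ((ea : (P : Subgroup G)) : G) * k⁻¹ from rfl]
    group
  have hvθ : ∀ e : E, v * (θ e : G) * v⁻¹ = θ e := fun e => by
    show v * (k * ((e : (P : Subgroup G)) : G) * k⁻¹) * v⁻¹ = k * ((e : (P : Subgroup G)) : G) * k⁻¹
    have h1 : (U' : G) * (e : (P : Subgroup G)) = (e : (P : Subgroup G)) * (U' : G) :=
      congrArg Subtype.val (hcE e.2 U')
    rw [hv, show k * (U' : G) * k⁻¹ * (k * ((e : (P : Subgroup G)) : G) * k⁻¹) * (k * U' * k⁻¹)⁻¹ =
      k * ((U' : G) * (e : (P : Subgroup G)) * (U' : G)⁻¹) * k⁻¹ by group, h1, mul_inv_cancel_right]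
  set m₀ : G := v * U with hm₀
  let φ : G →* MulAut G := MulAut.conj
  have hUE : ∀ {e : (P : Subgroup G)}, (∀ t, t * e = e * t) → (U : G) * e * (U : G)⁻¹ = e := fun he => by
    have h1 := congrArg Subtype.val (he U)
    simp only [Subgroup.coe_mul] at h1
    rw [h1, mul_inv_cancel_right]
  have hmw : φ m₀ (w : G) = (w : G) := by
    rw [MulAut.conj_apply, hm₀, show v * (U : G) * w * (v * U)⁻¹ = v * ((U : G) * w * (U : G)⁻¹) * v⁻¹ by
      group, hUE (hcE hew), hw, hvθ]
  have hmz : φ m₀ (z : G) = (a : G) * z := by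
    rw [MulAut.conj_apply, hm₀, show v * (U : G) * z * (v * U)⁻¹ = v * ((U : G) * z * (U : G)⁻¹) * v⁻¹ by
      group, hUE hzc, hvz]
  have hma : φ m₀ (a : G) = (w : G) * a := by
    rw [MulAut.conj_apply, hm₀, show v * (U : G) * a * (v * U)⁻¹ = v * ((U : G) * a * (U : G)⁻¹) * v⁻¹ by
      group, show (U : G) * a * (U : G)⁻¹ = (w : G) * a from congrArg Subtype.val haU,
      ← conj_mul, hw, ha, hvθ, hvθ]
  have haa : (a : G) * a = 1 := congrArg Subtype.val (hθ2 ea)
  have hww : (w : G) * w = 1 := congrArg Subtype.val (hθ2 ew)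
  have hwc : ∀ t : (P : Subgroup G), (t : G) * w = w * t := fun t =>
    congrArg Subtype.val (hcE hew t)
  have hmm : ∀ j : ℕ, φ (m₀ ^ (2 * j)) (z : G) = (w : G) ^ j * z := by
    intro j
    induction j with
    | zero => simp
    | succ j ih =>
      rw [show 2 * (j + 1) = 2 + 2 * j by ring, pow_add, map_mul, MulAut.mul_apply, ih, map_mul, map_pow,
        pow_two, map_mul, MulAut.mul_apply, MulAut.mul_apply, hmw, hmw, hmz, map_mul, hma, hmz,
        mul_assoc (w : G) a, ← mul_assoc (a : G) a, haa, one_mul, ← mul_assoc, ← pow_succ]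
  -- the 2-part
  obtain ⟨l, m, hm, hord⟩ := Nat.exists_eq_two_pow_mul_odd (orderOf_pos m₀).ne'
  set y := m₀ ^ m with hy
  have hy2 : φ (y ^ 2) (z : G) = (w : G) * z := by
    rw [hy, ← pow_mul, mul_comm, hmm]
    obtain ⟨i, rfl⟩ := hm
    rw [pow_succ (w : G), pow_mul (w : G), pow_two, hww, one_pow, one_mul]
  have hyp : IsPGroup 2 (Subgroup.zpowers y) := by
    have h1 : y ^ 2 ^ l = 1 := by
      rw [hy, ← pow_mul, mul_comm, ← hord, pow_orderOf_eq_one]
    obtain ⟨i, -, hi⟩ := (Nat.dvd_prime_pow Nat.prime_two).1 (orderOf_dvd_of_pow_eq_one h1)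
    exact IsPGroup.of_card (n := i) (by rw [Nat.card_zpowers, hi])
  set F := Subgroup.closure ({(w : G), (a : G), (z : G)} : Set G) with hF
  have hFP : F ≤ (P : Subgroup G) := (Subgroup.closure_le _).2 (by
    rintro _ (rfl | rfl | rfl)
    exacts [w.2, a.2, z.2])
  have hwF : (w : G) ∈ F := Subgroup.subset_closure (by simp)
  have haF : (a : G) ∈ F := Subgroup.subset_closure (by simp)
  have hzF : (z : G) ∈ F := Subgroup.subset_closure (by simp)
  have hmF : F.map (φ m₀).toMonoidHom = F := by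
    refine Subgroup.eq_of_le_of_card_ge ?_ (Subgroup.card_map_of_injective (φ m₀).injective).ge
    rw [hF, MonoidHom.map_closure, Subgroup.closure_le]
    rintro _ ⟨_, (rfl | rfl | rfl), rfl⟩
    · show φ m₀ (w : G) ∈ F
      rw [hmw]; exact hwF
    · show φ m₀ (a : G) ∈ F
      rw [hma]; exact F.mul_mem hwF haF
    · show φ m₀ (z : G) ∈ F
      rw [hmz]; exact F.mul_mem haF hzF
  have hyF : y ∈ Subgroup.normalizer (F : Set G) := by
    refine Subgroup.pow_mem _ (Subgroup.mem_normalizer_iff.2 fun b => ?_) m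
    conv_rhs => rw [← hmF, Subgroup.mem_map_equiv]
    rw [show (φ m₀).symm (m₀ * b * m₀⁻¹) = b by
      rw [MulEquiv.symm_apply_eq, MulAut.conj_apply]]
  have hS : IsPGroup 2 ↥(Subgroup.zpowers y ⊔ F) :=
    hyp.to_sup_of_normal_right' (P.2.to_le hFP) (Subgroup.zpowers_le.2 hyF)
  obtain ⟨n', -, hle'⟩ := conj_into P (z := (1 : G)) (fun t _ => by simp) hS fun s _ => by simp
  set Y : (P : Subgroup G) := ⟨n' * y * n'⁻¹, hle' y (Subgroup.mem_sup_left (Subgroup.mem_zpowers y))⟩
  set Z : (P : Subgroup G) := ⟨n' * z * n'⁻¹, hle' z (Subgroup.mem_sup_right hzF)⟩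
  have hyz : y * (z : G) * y⁻¹ ∈ F := ((Subgroup.mem_normalizer_iff.1 hyF _).1 hzF)
  have hzz : (z : G) * z = 1 := by rw [← pow_two]; exact congrArg Subtype.val hz2
  have hyzc : y * (z : G) * y⁻¹ * z = z * (y * z * y⁻¹) := congrArg Subtype.val (hzc ⟨_, hFP hyz⟩)
  set e := Y * Z * Y⁻¹ * Z with he
  have he2 : e * e = 1 := Subtype.ext (by
    show n' * y * n'⁻¹ * (n' * z * n'⁻¹) * (n' * y * n'⁻¹)⁻¹ * (n' * z * n'⁻¹) *
      (n' * y * n'⁻¹ * (n' * z * n'⁻¹) * (n' * y * n'⁻¹)⁻¹ * (n' * z * n'⁻¹)) = 1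
    calc _ = n' * ((y * (z : G) * y⁻¹ * z) * (y * z * y⁻¹ * z)) * n'⁻¹ := by group
      _ = 1 := by
        nth_rw 1 [hyzc]
        rw [show (z : G) * (y * z * y⁻¹) * (y * z * y⁻¹ * z) = z * (y * ((z : G) * z) * y⁻¹) * z by group,
          hzz]
        simp [hzz])
  have heX : e ∈ X := by
    rw [he, Subgroup.mul_mem_iff_of_index_two hidx]
    exact ⟨fun h1 => by simpa [mul_assoc] using hXn.conj_mem _ h1 Y⁻¹, fun h1 => hXn.conj_mem _ h1 Y⟩
  have hec := hcE (hmemE heX he2) Y
  have hZZ : Z * Z = 1 := Subtype.ext (by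
    show n' * (z : G) * n'⁻¹ * (n' * z * n'⁻¹) = 1
    rw [show n' * (z : G) * n'⁻¹ * (n' * z * n'⁻¹) = n' * ((z : G) * z) * n'⁻¹ by group, hzz]
    simp)
  have h1 : Y * Z * Y⁻¹ = e * Z := by rw [he, mul_assoc _ Z Z, hZZ, mul_one]
  have h2 : Y * (Y * Z * Y⁻¹) * Y⁻¹ = Z := by
    calc Y * (Y * Z * Y⁻¹) * Y⁻¹ = (Y * e * Y⁻¹) * (Y * Z * Y⁻¹) := by
          conv_lhs => rw [h1]
          group
      _ = Z := by rw [hec, mul_inv_cancel_right, h1, ← mul_assoc, he2, one_mul]
  have h3 : n' * y * n'⁻¹ * (n' * y * n'⁻¹ * (n' * z * n'⁻¹) * (n' * y * n'⁻¹)⁻¹) *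
      (n' * y * n'⁻¹)⁻¹ = n' * (z : G) * n'⁻¹ := congrArg Subtype.val h2
  have h4 : y ^ 2 * (z : G) * (y ^ 2)⁻¹ = z := by
    refine mul_left_cancel (a := n') (mul_right_cancel (b := n'⁻¹) ?_)
    rw [← h3, pow_two]
    group
  rw [MulAut.conj_apply, h4] at hy2
  exact hw1 (Subtype.ext (mul_eq_right.1 hy2.symm))

theorem main [IsSimpleGroup G] (hFT : FTDeps.Basic.OddOrderSolvable.{u}) (hna : ¬ IsMulCommutative G)
    (T : Sylow 2 G)
    (hd2 : ∀ B : Subgroup ↥T, B.Normal → IsMulCommutative ↥B → ∃ a b : ↥T, Subgroup.closure {a, b} = B)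
    (hd2' : ∃ B : Subgroup ↥T, B.Normal ∧ IsMulCommutative ↥B ∧ ¬ IsCyclic ↥B)
    (hN : ¬ Subgroup.normalizer ((T : Subgroup G) : Set G) ≤
      (T : Subgroup G) ⊔ Subgroup.centralizer ((T : Subgroup G) : Set G)) :
    Nat.card ↥T = 4 ∨ Nat.card ↥T = 64 ∨ Nat.card ↥T = 128 := by
  classical
  haveI : Fact (Nat.Prime 2) := ⟨Nat.prime_two⟩
  set P := (T : Subgroup G) with hP
  set N := Subgroup.normalizer (P : Set G) with hNdef
  have hPN : P ≤ N := Subgroup.le_normalizer
  haveI : (P.subgroupOf N).Normal := Subgroup.normal_in_normalizer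
  have hodd : Odd (P.subgroupOf N).index := by
    refine Nat.not_even_iff_odd.1 fun he => T.not_dvd_index ?_
    exact dvd_trans he.two_dvd (Subgroup.relIndex_dvd_index_of_le hPN)
  obtain ⟨n₀, hn₀⟩ := IsPGroup.iff_card.1 T.2
  have hcop : (Nat.card (P.subgroupOf N)).Coprime (P.subgroupOf N).index := by
    rw [Nat.card_congr (Subgroup.subgroupOfEquivOfLe hPN).toEquiv, hn₀]
    exact (Nat.coprime_two_left.2 hodd).pow_left n₀
  obtain ⟨H, hH⟩ := Subgroup.exists_right_complement'_of_coprime hcop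
  have hHodd : Odd (Nat.card H) := by rwa [← hH.symm.index_eq_card]
  set ψ := P.normalizerMonoidHom with hψ
  set A : Subgroup (MulAut P) := H.map ψ with hA
  have hsys : Sys A := by
    refine ⟨T.2, fun B hBn hBc hB2 => ?_, hHodd.of_dvd_nat (Subgroup.card_map_dvd H ψ)⟩
    obtain ⟨a, b, hab⟩ := hd2 B hBn hBc
    have haB : a ∈ B := hab ▸ Subgroup.subset_closure (Set.mem_insert _ _)
    have hbB : b ∈ B := hab ▸ Subgroup.subset_closure (Set.mem_insert_of_mem _ rfl)
    let f : Bool × Bool → B := fun o =>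
      (if o.1 then ⟨a, haB⟩ else 1) * (if o.2 then ⟨b, hbB⟩ else 1)
    refine (Nat.card_le_card_of_surjective f fun v => ?_).trans (by simp)
    have hA2 : a * a = 1 := by rw [← pow_two]; exact hB2 a haB
    have hB2' : b * b = 1 := by rw [← pow_two]; exact hB2 b hbB
    have hcm : b * a = a * b := setLike_mul_comm (s := B) hbB haB
    have hai := inv_eq_of_mul_eq_one_right hA2
    have hbi := inv_eq_of_mul_eq_one_right hB2'
    have haa' : ∀ u, a * (a * u) = u := fun u => by rw [← mul_assoc, hA2, one_mul]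
    suffices h : ∀ u ∈ Subgroup.closure ({a, b} : Set ↥P), ∃ o, (f o : ↥P) = u from
      (h v (hab.ge v.2)).imp fun o ho => Subtype.ext ho
    have hfval : ∀ o₁ o₂, (f (o₁, o₂) : ↥P) = (if o₁ then a else 1) * (if o₂ then b else 1) := by
      intro o₁ o₂; cases o₁ <;> cases o₂ <;> simp [f]
    intro u₀ hv
    induction hv using Subgroup.closure_induction_right with
    | one => exact ⟨(false, false), by simp [f]⟩
    | mul_right u _ w hw ih =>
      obtain ⟨⟨o₁, o₂⟩, ho⟩ := ih
      rw [← ho, hfval]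
      rcases hw with e | e <;> rw [e]
      · refine ⟨(!o₁, o₂), ?_⟩
        rw [hfval]
        cases o₁ <;> cases o₂ <;> simp [mul_assoc, hA2, hcm, haa']
      · refine ⟨(o₁, !o₂), ?_⟩
        rw [hfval]
        cases o₁ <;> cases o₂ <;> simp [mul_assoc, hB2']
    | mul_inv_cancel u _ w hw ih =>
      obtain ⟨⟨o₁, o₂⟩, ho⟩ := ih
      rw [← ho, hfval]
      rcases hw with e | e <;> rw [e]
      · refine ⟨(!o₁, o₂), ?_⟩
        rw [hfval, hai]
        cases o₁ <;> cases o₂ <;> simp [mul_assoc, hA2, hcm, haa']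
      · refine ⟨(o₁, !o₂), ?_⟩
        rw [hfval, hbi]
        cases o₁ <;> cases o₂ <;> simp [mul_assoc, hB2']
  have hψapp : ∀ (n : N) (t : ↥P), ((ψ n t : ↥P) : G) = (n : G) * t * (n : G)⁻¹ := fun n t => rfl
  have hdec : ∀ n ∈ N, ∃ t : ↥P, ∃ x : N, x ∈ H ∧ n = (t : G) * (x : G) := by
    intro n hn
    obtain ⟨⟨⟨t, ht⟩, ⟨x, hx⟩⟩, htx⟩ := hH.2 ⟨n, hn⟩
    exact ⟨⟨(t : G), ht⟩, x, hx, (congrArg Subtype.val htx).symm⟩
  have hX : displ A ≠ ⊥ := by
    intro hbot
    refine hN fun n hn => ?_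
    obtain ⟨t, x, hx, rfl⟩ := hdec n hn
    refine Subgroup.mul_mem _ (Subgroup.mem_sup_left t.2) (Subgroup.mem_sup_right ?_)
    refine Subgroup.mem_centralizer_iff.2 fun v hv => ?_
    have h1 := displ_mem (A := A) (Subgroup.mem_map_of_mem ψ hx) ⟨v, hv⟩
    rw [hbot, Subgroup.mem_bot, inv_mul_eq_one] at h1
    have h2 := congrArg Subtype.val h1
    rw [hψapp] at h2
    exact mul_inv_eq_iff_eq_mul.1 h2.symm |>.symm
  have hquat : ∀ {z x y : ↥P}, Quat z x y → z ∈ fixedSub A → False := by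
    intro z x y hq hz
    refine hq.false_of_simple hFT hna hsys fun n hn => ?_
    obtain ⟨t, v, hv, rfl⟩ := hdec n hn
    have h1 : (v : G) * z * (v : G)⁻¹ = z := by
      rw [← hψapp]; exact congrArg Subtype.val (hz _ (Subgroup.mem_map_of_mem ψ hv))
    rw [show (t : G) * v * z * ((t : G) * v)⁻¹ = (t : G) * ((v : G) * z * (v : G)⁻¹) * (t : G)⁻¹ by group,
      h1]
    have h2 := congrArg Subtype.val (hq.zc t)
    simp only [Subgroup.coe_mul] at h2
    rw [h2, mul_inv_cancel_right]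
  by_cases hab : ∀ a ∈ displ A, ∀ b ∈ displ A, a * b = b * a
  · rcases (AbDispl.mk hsys hab hX).cases_abelian with h4 | ⟨m, hm, ⟨e⟩⟩ | ⟨c, hc⟩
    · exact Or.inl h4
    · exfalso
      have hn := Homocyclic.BrauerTheorem.sylow_normal_aux _ G rfl T m hm e
        (fun K hK hKodd => FTDeps.Row0516.odd_normal_eq_bot hFT hna K hK hKodd)
      rcases IsSimpleGroup.eq_bot_or_eq_top_of_normal (T : Subgroup G) hn with e1 | e1
      · refine hX ((Subgroup.eq_bot_iff_forall _).2 fun v _ => Subtype.ext ?_)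
        exact Subgroup.mem_bot.1 (e1.le v.2)
      · refine hna ⟨⟨fun a b => ?_⟩⟩
        have ha : a ∈ (T : Subgroup G) := e1 ▸ Subgroup.mem_top a
        have hb : b ∈ (T : Subgroup G) := e1 ▸ Subgroup.mem_top b
        exact congrArg Subtype.val (e.injective (a₁ := ⟨a, ha⟩ * ⟨b, hb⟩) (a₂ := ⟨b, hb⟩ * ⟨a, ha⟩)
          (by rw [map_mul, map_mul, mul_comm]))
    · exact (not_inverted T (no_index_two hna) hc).elim
  · rcases hsys.four_or_quat hd2' with ⟨E, hE⟩ | ⟨z, x, y, hq, hz⟩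
    · rcases hE.cases_nonabelian hab with h64 | h128 | ⟨z, x, y, hq, hz⟩
      · exact Or.inr (Or.inl h64)
      · exact Or.inr (Or.inr h128)
      · exact (hquat hq hz).elim
    · exact (hquat hq hz).elim

end Cfsg.Agent.Lib.NormRankTwoAuto23
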