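import Cfsg.Agent.Lib.NormRankTwoAuto23.Basic

/-!
# An invariant normal four-group: the section `L / E`

`Y = [T, A] E`, `L` the preimage of the elements of order two of the centre of `Y / E`, `W0` its
part central in `T` modulo `E`.
-/

set_option autoImplicit false
set_option linter.unusedSectionVars false
set_option linter.style.haveILetI false

namespace Cfsg.Agent.Lib.NormRankTwoAuto23

open scoped commutatorElement
open Cfsg.Agent.Lib.TwoGroupOddAuto (eq_of_card_four closure_elemAb)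

variable {T : Type*} [Group T]

/-- An invariant normal four-group. -/
structure Inv4 (A : Subgroup (MulAut T)) (E : Subgroup T) : Prop where
  sys : Sys A
  normal : E.Normal
  comm : ∀ a ∈ E, ∀ b ∈ E, a * b = b * a
  sq : ∀ e ∈ E, e ^ 2 = 1
  inv : ∀ φ ∈ A, ∀ e ∈ E, φ e ∈ E
  card : Nat.card E = 4

namespace Inv4

variable [Finite T] {A : Subgroup (MulAut T)} {E : Subgroup T} (h : Inv4 A E)
include h

theorem inv_eq {e : T} (he : e ∈ E) : e⁻¹ = e :=
  inv_eq_of_mul_eq_one_right (by rw [← pow_two]; exact h.sq e he)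

theorem exists_central : ∃ z ∈ E, z ≠ 1 ∧ ∀ t : T, t * z = z * t := by
  have hne : E ≠ ⊥ := fun e => by
    have := h.card
    rw [e, Subgroup.card_bot] at this
    omega
  obtain ⟨z, hz, hz1, hzc⟩ := h.sys.exists_central_mod (N := ⊥) inferInstance h.normal bot_le hne
  exact ⟨z, hz, fun e => hz1 (e ▸ Subgroup.one_mem _), fun t =>
    commutatorElement_eq_one_iff_mul_comm.1 (Subgroup.mem_bot.1 (hzc t))⟩

/-- An element moving `e ∈ E` multiplies it by the central involution. -/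
theorem conj_cases {z : T} (hz : z ∈ E) (hz1 : z ≠ 1) (hzc : ∀ t : T, t * z = z * t) (t : T)
    {e : T} (he : e ∈ E) : t * e * t⁻¹ = e ∨ (e ≠ 1 ∧ e ≠ z ∧ t * e * t⁻¹ = z * e) := by
  by_cases he1 : e = 1
  · simp [he1]
  by_cases hez : e = z
  · left; rw [hez, hzc t, mul_inv_cancel_right]
  have hze : z * e ≠ 1 := fun e' => hez (by rw [← inv_eq_of_mul_eq_one_right e', h.inv_eq hz])
  rcases eq_of_card_four h.card hz he hz1 he1 (Ne.symm hez) hze
      (h.normal.conj_mem e he t) with h1 | h1 | h1 | h1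
  · exact absurd (conj_eq_one_iff.1 h1) he1
  · refine absurd ?_ hez
    calc e = t⁻¹ * (t * e * t⁻¹) * t := by group
      _ = t⁻¹ * (z * t) := by rw [h1, mul_assoc]
      _ = z := by rw [← hzc t, inv_mul_cancel_left]
  · exact Or.inl h1
  · exact Or.inr ⟨he1, hez, h1⟩

/-- Commutators with `E` are central. -/
theorem comm_E_central {e : T} (he : e ∈ E) (t t' : T) : t' * ⁅t, e⁆ = ⁅t, e⁆ * t' := by
  obtain ⟨z, hz, hz1, hzc⟩ := h.exists_central
  rcases h.conj_cases hz hz1 hzc t he with h1 | ⟨-, -, h1⟩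
  · rw [show ⁅t, e⁆ = 1 by rw [commutatorElement_def, h1, mul_inv_cancel]]; simp
  · rw [show ⁅t, e⁆ = z by rw [commutatorElement_def, h1, mul_inv_cancel_right]]; exact hzc t'

theorem inv_centralizer {φ : MulAut T} (hφ : φ ∈ A) {t : T}
    (ht : t ∈ Subgroup.centralizer (E : Set T)) : φ t ∈ Subgroup.centralizer (E : Set T) := by
  refine Subgroup.mem_centralizer_iff.2 fun e he => ?_
  have h1 := congrArg φ (Subgroup.mem_centralizer_iff.1 ht _ (h.inv φ⁻¹ (A.inv_mem hφ) e he))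
  rwa [map_mul, map_mul, MulAut.apply_inv_self] at h1

/-- `[T, A]` centralises `E`. -/
theorem displ_le_centralizer : displ A ≤ Subgroup.centralizer (E : Set T) := by
  obtain ⟨z, hz, hz1, hzc⟩ := h.exists_central
  refine h.sys.displ_le fun φ hφ x _ => ?_
  by_cases hx : x ∈ Subgroup.centralizer (E : Set T)
  · exact Subgroup.mul_mem _ (Subgroup.inv_mem _ hx) (h.inv_centralizer hφ hx)
  · have hx' : φ x ∉ Subgroup.centralizer (E : Set T) := fun hm => hx (by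
      have := h.inv_centralizer (A.inv_mem hφ) hm
      rwa [MulAut.inv_apply_self] at this)
    refine Subgroup.mem_centralizer_iff.2 fun e he => ?_
    have key : ∀ t : T, t ∉ Subgroup.centralizer (E : Set T) → ∀ e ∈ E,
        (e = 1 ∨ e = z) ∨ t * e * t⁻¹ = z * e := by
      intro t ht e he
      rcases h.conj_cases hz hz1 hzc t he with h1 | ⟨-, -, h1⟩
      · left
        by_contra hcon
        push Not at hcon
        refine ht (Subgroup.mem_centralizer_iff.2 fun f hf => ?_)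
        have hze : z * e ≠ 1 := fun e' =>
          hcon.2 (by rw [← inv_eq_of_mul_eq_one_right e', h.inv_eq hz])
        have hte : t * e = e * t := mul_inv_eq_iff_eq_mul.1 h1
        rcases eq_of_card_four h.card hz he hz1 hcon.1 (Ne.symm hcon.2) hze hf with
          rfl | rfl | rfl | rfl
        · simp
        · exact (hzc t).symm
        · exact hte.symm
        · rw [mul_assoc, ← hte, ← mul_assoc, ← hzc t, mul_assoc]
      · exact Or.inr h1
    rcases key x hx e he with (rfl | rfl) | h1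
    · simp
    · exact (hzc _).symm
    rcases key (φ x) hx' e he with (rfl | rfl) | h2
    · simp
    · exact (hzc _).symm
    · have h3 : φ x * e * (φ x)⁻¹ = x * e * x⁻¹ := h2.trans h1.symm
      calc e * (x⁻¹ * φ x) = x⁻¹ * (x * e * x⁻¹) * φ x := by group
        _ = x⁻¹ * φ x * e := by rw [← h3]; group

/-- `Y = [T, A] E`. -/
abbrev Y (_h : Inv4 A E) : Subgroup T := displ A ⊔ E

theorem E_le_Y : E ≤ h.Y := le_sup_right

theorem Y_comm {y : T} (hy : y ∈ h.Y) {e : T} (he : e ∈ E) : y * e = e * y :=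
  ((Subgroup.mem_centralizer_iff.1 (sup_le h.displ_le_centralizer
    (fun a ha => Subgroup.mem_centralizer_iff.2 fun b hb => h.comm b hb a ha) hy)) e he).symm

theorem Y_inv {φ : MulAut T} (hφ : φ ∈ A) {y : T} (hy : y ∈ h.Y) : φ y ∈ h.Y := by
  have hle : h.Y ≤ (h.Y).comap φ.toMonoidHom :=
    sup_le (fun x hx => Subgroup.mem_sup_left (displ_inv hφ hx))
      fun e he => Subgroup.mem_sup_right (h.inv φ hφ e he)
  exact hle hy

theorem Y_normal : (h.Y).Normal :=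
  haveI := displ_normal (A := A); haveI := h.normal; inferInstance

theorem mem_Y_iff {y : T} : y ∈ h.Y ↔ ∃ x ∈ displ A, ∃ e ∈ E, x * e = y := by
  haveI := h.normal
  exact Subgroup.mem_sup_of_normal_right

theorem decompose (t : T) : ∃ c ∈ fixedSub A, ∃ y ∈ h.Y, t = c * y := by
  obtain ⟨c, hc, x, hx, e⟩ := h.sys.decompose t
  exact ⟨c, hc, x, Subgroup.mem_sup_left hx, e⟩

/-- `⁅a b, y⁆ = ⁅a, y⁆ ⁅b, y⁆` when the second commutator is in `E` and `a ∈ Y`. -/
theorem comm_mul_left {a b y : T} (ha : a ∈ h.Y) (hby : ⁅b, y⁆ ∈ E) (hay : ⁅a, y⁆ ∈ E) :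
    ⁅a * b, y⁆ = ⁅a, y⁆ * ⁅b, y⁆ := by
  calc ⁅a * b, y⁆ = a * ⁅b, y⁆ * a⁻¹ * ⁅a, y⁆ := by simp only [commutatorElement_def]; group
    _ = ⁅b, y⁆ * ⁅a, y⁆ := by rw [h.Y_comm ha hby, mul_inv_cancel_right]
    _ = ⁅a, y⁆ * ⁅b, y⁆ := h.comm _ hby _ hay

theorem comm_mul_right {a b y : T} (ha : a ∈ h.Y) (hyb : ⁅y, b⁆ ∈ E) :
    ⁅y, a * b⁆ = ⁅y, a⁆ * ⁅y, b⁆ := by
  calc ⁅y, a * b⁆ = ⁅y, a⁆ * (a * ⁅y, b⁆ * a⁻¹) := by simp only [commutatorElement_def]; group
    _ = ⁅y, a⁆ * ⁅y, b⁆ := by rw [h.Y_comm ha hyb, mul_inv_cancel_right]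

theorem comm_symm {a b : T} (hab : ⁅a, b⁆ ∈ E) : ⁅b, a⁆ = ⁅a, b⁆ := by
  rw [← commutatorElement_inv, h.inv_eq hab]

theorem sq_mul' {a b : T} (ha : a ∈ h.Y) (hb : b ∈ h.Y) (hab : ⁅b, a⁆ ∈ E) :
    (a * b) ^ 2 = a ^ 2 * b ^ 2 * ⁅b, a⁆ := by
  calc (a * b) ^ 2 = a * ⁅b, a⁆ * (a * b * b) := by
        simp only [commutatorElement_def, pow_two]; group
    _ = ⁅b, a⁆ * (a * (a * b * b)) := by rw [h.Y_comm ha hab]; group
    _ = (a * (a * b * b)) * ⁅b, a⁆ :=
        (h.Y_comm ((h.Y).mul_mem ha ((h.Y).mul_mem ((h.Y).mul_mem ha hb) hb)) hab).symm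
    _ = a ^ 2 * b ^ 2 * ⁅b, a⁆ := by simp only [pow_two, mul_assoc]

/-- The preimage of the involutions of `Z(Y / E)`. -/
def L (h : Inv4 A E) : Subgroup T where
  carrier := {y | y ∈ h.Y ∧ y ^ 2 ∈ E ∧ ∀ y' ∈ h.Y, ⁅y', y⁆ ∈ E}
  one_mem' := ⟨(h.Y).one_mem, by simp, fun y' _ => by simp⟩
  mul_mem' := fun {a b} ha hb => ⟨(h.Y).mul_mem ha.1 hb.1,
    by rw [h.sq_mul' ha.1 hb.1 (hb.2.2 a ha.1 |> commutator_mem_symm)]
       exact E.mul_mem (E.mul_mem ha.2.1 hb.2.1) (hb.2.2 a ha.1 |> commutator_mem_symm),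
    fun y' hy' => by
      rw [h.comm_mul_right ha.1 (hb.2.2 y' hy')]
      exact E.mul_mem (ha.2.2 y' hy') (hb.2.2 y' hy')⟩
  inv_mem' := fun {a} ha => ⟨(h.Y).inv_mem ha.1, by rw [inv_pow]; exact E.inv_mem ha.2.1,
    fun y' hy' => by
      rw [show ⁅y', a⁻¹⁆ = a⁻¹ * ⁅y', a⁆⁻¹ * a by simp only [commutatorElement_def]; group,
        mul_assoc, ← h.Y_comm ha.1 (E.inv_mem (ha.2.2 y' hy')), ← mul_assoc, inv_mul_cancel,
        one_mul]
      exact E.inv_mem (ha.2.2 y' hy')⟩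

theorem mem_L {y : T} : y ∈ h.L ↔ y ∈ h.Y ∧ y ^ 2 ∈ E ∧ ∀ y' ∈ h.Y, ⁅y', y⁆ ∈ E := Iff.rfl

theorem L_le_Y : h.L ≤ h.Y := fun _ hy => hy.1

theorem E_le_L : E ≤ h.L := fun e he => ⟨h.E_le_Y he, by rw [h.sq e he]; exact E.one_mem,
  fun y' hy' => by rw [commutatorElement_eq_one_iff_mul_comm.2 (h.Y_comm hy' he)]; exact E.one_mem⟩

theorem L_comm {a b : T} (ha : a ∈ h.L) (hb : b ∈ h.L) : ⁅a, b⁆ ∈ E := hb.2.2 a ha.1

theorem L_inv {φ : MulAut T} (hφ : φ ∈ A) {y : T} (hy : y ∈ h.L) : φ y ∈ h.L := by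
  refine ⟨h.Y_inv hφ hy.1, by rw [← map_pow]; exact h.inv φ hφ _ hy.2.1, fun y' hy' => ?_⟩
  have h1 := h.inv φ hφ _ (hy.2.2 _ (h.Y_inv (A.inv_mem hφ) hy'))
  rwa [map_commutatorElement, MulAut.apply_inv_self] at h1

theorem L_normal : (h.L).Normal := by
  haveI := h.Y_normal
  haveI := h.normal
  refine ⟨fun y hy g => ⟨(inferInstance : (h.Y).Normal).conj_mem y hy.1 g,
    by rw [conj_pow]; exact h.normal.conj_mem _ hy.2.1 g, fun y' hy' => ?_⟩⟩
  have h1 := h.normal.conj_mem _ (hy.2.2 _ (h.Y_normal.conj_mem y' hy' g⁻¹)) g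
  rwa [show g * ⁅g⁻¹ * y' * g⁻¹⁻¹, y⁆ * g⁻¹ = ⁅y', g * y * g⁻¹⁆ by
    simp only [commutatorElement_def]; group] at h1

theorem card_L_le : Nat.card h.L ≤ 64 := by
  have := h.sys.card_le_of_sq (H := h.L) (N := E) fun x hx => hx.2.1
  rw [h.card] at this
  exact this

/-- The part of `L` central in `T` modulo `E`. -/
def W0 (h : Inv4 A E) : Subgroup T where
  carrier := {y | y ∈ h.L ∧ ∀ t : T, ⁅t, y⁆ ∈ E}
  one_mem' := ⟨h.L.one_mem, fun t => by simp⟩
  mul_mem' := fun {a b} ha hb => ⟨h.L.mul_mem ha.1 hb.1, fun t => by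
    rw [h.comm_mul_right ha.1.1 (hb.2 t)]; exact E.mul_mem (ha.2 t) (hb.2 t)⟩
  inv_mem' := fun {a} ha => ⟨h.L.inv_mem ha.1, fun t => by
    rw [show ⁅t, a⁻¹⁆ = a⁻¹ * ⁅t, a⁆⁻¹ * a by simp only [commutatorElement_def]; group,
      mul_assoc, ← h.Y_comm ha.1.1 (E.inv_mem (ha.2 t)), ← mul_assoc, inv_mul_cancel, one_mul]
    exact E.inv_mem (ha.2 t)⟩

theorem mem_W0 {y : T} : y ∈ h.W0 ↔ y ∈ h.L ∧ ∀ t : T, ⁅t, y⁆ ∈ E := Iff.rfl

theorem W0_le_L : h.W0 ≤ h.L := fun _ hy => hy.1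

theorem E_le_W0 : E ≤ h.W0 := fun _ he =>
  ⟨h.E_le_L he, fun t => commutator_mem_of_normal h.normal t he⟩

theorem W0_inv {φ : MulAut T} (hφ : φ ∈ A) {y : T} (hy : y ∈ h.W0) : φ y ∈ h.W0 := by
  refine ⟨h.L_inv hφ hy.1, fun t => ?_⟩
  have h1 := h.inv φ hφ _ (hy.2 (φ⁻¹ t))
  rwa [map_commutatorElement, MulAut.apply_inv_self] at h1

theorem W0_normal : (h.W0).Normal :=
  normal_of_commutator_mem fun g _ hx => h.E_le_W0 (hx.2 g)

/-- A normal elementary abelian subgroup containing `E` equals it. -/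
theorem eq_of_elem {K : Subgroup T} (hK : K.Normal) (hc : IsMulCommutative K)
    (h2 : ∀ k ∈ K, k ^ 2 = 1) (hEK : E ≤ K) : K = E :=
  (Subgroup.eq_of_le_of_card_ge hEK (by rw [h.card]; exact h.sys.small K hK hc h2)).symm

/-- `E` contains every involution central modulo `E`. -/
theorem mem_E_of_W0 {y : T} (hy : y ∈ h.W0) (hy2 : y ^ 2 = 1) : y ∈ E := by
  obtain ⟨hcm, h2⟩ := closure_elemAb (S := insert y (E : Set T))
    (by
      rintro a (rfl | ha) b (rfl | hb)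
      · rfl
      · exact h.Y_comm hy.1.1 hb
      · exact (h.Y_comm hy.1.1 ha).symm
      · exact h.comm a ha b hb)
    (by rintro a (rfl | ha); exacts [hy2, h.sq a ha])
  have hEK : E ≤ Subgroup.closure (insert y (E : Set T)) :=
    fun e he => Subgroup.subset_closure (Or.inr he)
  have hn : (Subgroup.closure (insert y (E : Set T))).Normal := by
    refine normal_of_commutator_mem fun g x hx => hEK ?_
    have hle : Subgroup.closure (insert y (E : Set T)) ≤ h.W0 :=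
      (Subgroup.closure_le _).2 (Set.insert_subset_iff.2 ⟨hy, h.E_le_W0⟩)
    exact (hle hx).2 g
  rw [← h.eq_of_elem hn hcm h2 hEK]
  exact Subgroup.subset_closure (Set.mem_insert y _)

/-- An automorphism in `A` fixing an involution of `E` fixes `E`. -/
theorem fix_E {φ : MulAut T} (hφ : φ ∈ A) {c : T} (hc : c ∈ E) (hc1 : c ≠ 1) (hfix : φ c = c)
    {e : T} (he : e ∈ E) : φ e = e := by
  by_cases he1 : e = 1
  · simp [he1]
  by_cases hec : e = c
  · rw [hec, hfix]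
  have hce : c * e ≠ 1 := fun e' => hec (by rw [← inv_eq_of_mul_eq_one_right e', h.inv_eq hc])
  rcases eq_of_card_four h.card hc he hc1 he1 (Ne.symm hec) hce (h.inv φ hφ e he)
    with h1 | h1 | h1 | h1
  · exact absurd ((map_eq_one_iff φ φ.injective).1 h1) he1
  · exact absurd (φ.injective (h1.trans hfix.symm)) hec
  · exact h1
  · exact absurd (TwoGroupOddAuto.eq_of_fixed_error (ψ := φ)
      (h.sys.odd.of_dvd_nat (Subgroup.orderOf_dvd_natCard A hφ))
      (h1.trans (h.comm c hc e he)) hfix (h.sq c hc)) hc1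

/-- Either `A` centralises `E` or it fixes only the identity of `E`. -/
theorem fix_or_fpf : (∀ φ ∈ A, ∀ e ∈ E, φ e = e) ∨
    ∀ e ∈ E, e ∈ fixedSub A → e = 1 := by
  by_contra hcon
  simp only [not_or, not_forall, exists_prop] at hcon
  obtain ⟨⟨φ, hφ, e, he, hne⟩, c, hc, hcf, hc1⟩ := hcon
  exact hne (h.fix_E hφ hc hc1 (hcf φ hφ) he)

end Inv4

end Cfsg.Agent.Lib.NormRankTwoAuto23
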