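import Cfsg.Agent.Lib.NormRankTwoAuto23.Section

/-!
# Shape of `L / E`: no fixed points of `A`, order 16, and `W0 / E` of order 4

This holds as soon as `L` has an involution outside `E`; then also `L = [T, A] E`.
-/

set_option autoImplicit false
set_option linter.unusedSectionVars false
set_option linter.style.haveILetI false

namespace Cfsg.Agent.Lib.NormRankTwoAuto23

open scoped commutatorElement
open Cfsg.Agent.Lib.TwoGroupOddAuto (closure_elemAb)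

variable {T : Type*} [Group T] [Finite T] {A : Subgroup (MulAut T)} {E : Subgroup T}

namespace Inv4

variable (h : Inv4 A E)
include h

/-- Conjugation of a fixed element of `L`, modulo `E`. -/
theorem conj_fixed {a : T} (haL : a ∈ h.L) (haC : a ∈ fixedSub A) (t : T) :
    ∃ e ∈ E, ∃ b ∈ h.L ⊓ fixedSub A, t * a * t⁻¹ = e * b := by
  obtain ⟨c, hc, y, hy, rfl⟩ := h.decompose t
  refine ⟨c * ⁅y, a⁆ * c⁻¹, h.normal.conj_mem _ (haL.2.2 y hy) c, c * a * c⁻¹,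
    ⟨h.L_normal.conj_mem a haL c,
      (fixedSub A).mul_mem ((fixedSub A).mul_mem hc haC) ((fixedSub A).inv_mem hc)⟩, ?_⟩
  simp only [commutatorElement_def]; group

/-- A fixed element of `L` is central in `Y` when `A` centralises `E`. -/
theorem fixed_comm (hE : ∀ φ ∈ A, ∀ e ∈ E, φ e = e) {a : T} (haL : a ∈ h.L)
    (haC : a ∈ fixedSub A) {y : T} (hy : y ∈ h.Y) : y * a = a * y := by
  let f : displ A →* E := MonoidHom.mk' (fun x => ⟨⁅(x : T), a⁆,
      haL.2.2 x (Subgroup.mem_sup_left x.2)⟩) fun x x' => Subtype.ext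
    (h.comm_mul_left (Subgroup.mem_sup_left x.2) (haL.2.2 x' (Subgroup.mem_sup_left x'.2))
      (haL.2.2 x (Subgroup.mem_sup_left x.2)))
  have hf := h.sys.hom_trivial f fun φ hφ x hx => Subtype.ext <| by
    show ⁅φ (x : T), a⁆ = ⁅(x : T), a⁆
    conv_lhs => rw [← haC φ hφ, ← map_commutatorElement]
    exact hE φ hφ _ (haL.2.2 x (Subgroup.mem_sup_left x.2))
  obtain ⟨x, hx, e, he, rfl⟩ := h.mem_Y_iff.1 hy
  have hxa : x * a = a * x :=
    commutatorElement_eq_one_iff_mul_comm.1 (congrArg Subtype.val (hf ⟨x, hx⟩))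
  rw [mul_assoc, ← h.Y_comm haL.1 he, ← mul_assoc, hxa, mul_assoc]

/-- The subgroup generated by `E` and the fixed elements of `L` is normal. -/
theorem fixedL_normal : ((h.L ⊓ fixedSub A) ⊔ E).Normal := by
  haveI := h.normal
  refine ⟨fun x hx g => ?_⟩
  obtain ⟨a, ha, e, he, rfl⟩ := Subgroup.mem_sup_of_normal_right.1 hx
  obtain ⟨e', he', b, hb, hab⟩ := h.conj_fixed ha.1 ha.2 g
  rw [show g * (a * e) * g⁻¹ = (g * a * g⁻¹) * (g * e * g⁻¹) by group, hab]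
  exact Subgroup.mul_mem _ (Subgroup.mul_mem _ (Subgroup.mem_sup_right he')
    (Subgroup.mem_sup_left hb)) (Subgroup.mem_sup_right (h.normal.conj_mem e he g))

/-- A fixed involution of `L` lies in `E`. -/
theorem fixed_invol (hE : ∀ φ ∈ A, ∀ e ∈ E, φ e = e) {a : T} (haL : a ∈ h.L)
    (haC : a ∈ fixedSub A) (ha2 : a ^ 2 = 1) : a ∈ E := by
  haveI := h.normal
  let S : Set T := {x | x ∈ (h.L ⊓ fixedSub A) ⊔ E ∧ x ^ 2 = 1}
  have hS : ∀ x ∈ S, ∀ y ∈ S, x * y = y * x := by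
    rintro x ⟨hx, -⟩ y ⟨hy, -⟩
    obtain ⟨a, ha, e, he, rfl⟩ := Subgroup.mem_sup_of_normal_right.1 hx
    have hyY : y ∈ h.Y := (sup_le (inf_le_left.trans h.L_le_Y) h.E_le_Y : _ ≤ h.Y) hy
    rw [mul_assoc, ← h.Y_comm hyY he, ← mul_assoc, ← h.fixed_comm hE ha.1 ha.2 hyY, mul_assoc]
  obtain ⟨hcm, h2⟩ := closure_elemAb hS fun x hx => hx.2
  have hn : (Subgroup.closure S).Normal := by
    refine ⟨fun x hx g => ?_⟩
    induction hx using Subgroup.closure_induction with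
    | mem y hy =>
      exact Subgroup.subset_closure ⟨h.fixedL_normal.conj_mem y hy.1 g,
        by rw [conj_pow, hy.2]; simp⟩
    | one => simp
    | mul u v _ _ iu iv =>
      rw [show g * (u * v) * g⁻¹ = (g * u * g⁻¹) * (g * v * g⁻¹) by group]
      exact Subgroup.mul_mem _ iu iv
    | inv u _ iu =>
      rw [show g * u⁻¹ * g⁻¹ = (g * u * g⁻¹)⁻¹ by group]
      exact Subgroup.inv_mem _ iu
  rw [← h.eq_of_elem hn hcm h2 fun e he =>
    Subgroup.subset_closure ⟨Subgroup.mem_sup_right he, h.sq e he⟩]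
  exact Subgroup.subset_closure ⟨Subgroup.mem_sup_left ⟨haL, haC⟩, ha2⟩

/-- If `A` moves `E`, no fixed point of `L` lies outside `E`. -/
theorem fixed_le_of_fpf (hE : ∀ e ∈ E, e ∈ fixedSub A → e = 1) : h.L ⊓ fixedSub A ≤ E := by
  by_contra hle
  haveI := h.normal
  have hne : (h.L ⊓ fixedSub A) ⊔ E ≠ E := fun e => hle (le_sup_left.trans e.le)
  obtain ⟨w, hw, hwE, hwc⟩ :=
    h.sys.exists_central_mod h.normal h.fixedL_normal le_sup_right hne
  obtain ⟨a, ha, e, he, rfl⟩ := Subgroup.mem_sup_of_normal_right.1 hw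
  refine hwE (E.mul_mem (h.mem_E_of_W0 ⟨ha.1, fun t => ?_⟩
    (hE _ ha.1.2.1 ((fixedSub A).pow_mem ha.2 2))) he)
  have h1 := hwc t
  have h2 : ⁅t, e⁆ ∈ E := commutator_mem_of_normal h.normal t he
  rw [h.comm_mul_right ha.1.1 h2] at h1
  exact (E.mul_mem_cancel_right h2).1 h1

/-- The displacements of `L`, with `E`. -/
def R (h : Inv4 A E) : Subgroup T :=
  Subgroup.closure ({g : T | ∃ φ ∈ A, ∃ y ∈ h.L, g = y⁻¹ * φ y} ∪ E)

theorem E_le_R : E ≤ h.R := fun _ he => Subgroup.subset_closure (Or.inr he)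

theorem R_le_L : h.R ≤ h.L := by
  refine (Subgroup.closure_le _).2 (Set.union_subset ?_ h.E_le_L)
  rintro _ ⟨φ, hφ, y, hy, rfl⟩
  exact h.L.mul_mem (h.L.inv_mem hy) (h.L_inv hφ hy)

theorem R_inv {ψ : MulAut T} (hψ : ψ ∈ A) {r : T} (hr : r ∈ h.R) : ψ r ∈ h.R := by
  have hle : h.R ≤ h.R.comap ψ.toMonoidHom := by
    refine (Subgroup.closure_le _).2 (Set.union_subset ?_ fun e he => h.E_le_R (h.inv ψ hψ e he))
    rintro _ ⟨φ, hφ, y, hy, rfl⟩
    refine Subgroup.subset_closure (Or.inl ⟨ψ * φ * ψ⁻¹, A.mul_mem (A.mul_mem hψ hφ) (A.inv_mem hψ),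
      ψ y, h.L_inv hψ hy, ?_⟩)
    simp [MulAut.mul_apply]
  exact hle hr

theorem R_normal : (h.R).Normal := by
  refine ⟨fun r hr g => ?_⟩
  induction hr using Subgroup.closure_induction with
  | mem x hx =>
    rcases hx with ⟨φ, hφ, y, hy, rfl⟩ | hx
    · obtain ⟨c, hc, u, hu, rfl⟩ := h.decompose g
      have hr0 : y⁻¹ * φ y ∈ h.L := h.L.mul_mem (h.L.inv_mem hy) (h.L_inv hφ hy)
      rw [show c * u * (y⁻¹ * φ y) * (c * u)⁻¹ =
          (c * ⁅u, y⁻¹ * φ y⁆ * c⁻¹) * ((c * y * c⁻¹)⁻¹ * (c * φ y * c⁻¹)) by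
        simp only [commutatorElement_def]; group, ← map_conj_fixed hφ hc]
      exact Subgroup.mul_mem _ (h.E_le_R (h.normal.conj_mem _ (hr0.2.2 u hu) c))
        (Subgroup.subset_closure (Or.inl ⟨φ, hφ, _, h.L_normal.conj_mem y hy c, rfl⟩))
    · exact h.E_le_R (h.normal.conj_mem x hx g)
  | one => simp
  | mul a b _ _ iha ihb =>
    rw [show g * (a * b) * g⁻¹ = (g * a * g⁻¹) * (g * b * g⁻¹) by group]
    exact h.R.mul_mem iha ihb
  | inv a _ iha =>
    rw [show g * a⁻¹ * g⁻¹ = (g * a * g⁻¹)⁻¹ by group]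
    exact h.R.inv_mem iha

/-- The fixed points in `R` lie in `E`. -/
theorem R_fixed {r : T} (hr : r ∈ h.R) (hrC : r ∈ fixedSub A) : r ∈ E := by
  haveI := h.normal
  obtain ⟨f, hf1, hf2, hf3⟩ := h.sys.exists_proj h.normal (fun φ hφ y hy => h.L_inv hφ hy)
    fun a ha b hb => h.L_comm ha hb
  have hle : h.R ≤ f.ker.map h.L.subtype := by
    refine (Subgroup.closure_le _).2 (Set.union_subset ?_ ?_)
    · rintro _ ⟨φ, hφ, y, hy, rfl⟩
      refine ⟨(⟨y, hy⟩ : h.L)⁻¹ * ⟨φ y, h.L_inv hφ hy⟩, ?_, rfl⟩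
      show f _ = 1
      rw [map_mul, hf1 φ hφ ⟨y, hy⟩, map_inv, inv_mul_cancel]
    · intro e he
      exact ⟨⟨e, h.E_le_L he⟩, hf3 _ (fun φ hφ => h.inv φ hφ e he), rfl⟩
  obtain ⟨y, hy, rfl⟩ := hle hr
  refine hf2 y (fun φ hφ => ?_) hy
  show (y : T)⁻¹ * φ (y : T) ∈ E
  rw [show φ (y : T) = (y : T) from hrC φ hφ, inv_mul_cancel]
  exact E.one_mem

/-- `L = (L ∩ C(A)) R`. -/
theorem L_decompose {y : T} (hy : y ∈ h.L) :
    ∃ a ∈ h.L ⊓ fixedSub A, ∃ r ∈ h.R, y = a * r := by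
  obtain ⟨n, hn, hf⟩ := h.sys.exists_fixed (fun φ hφ x hx => h.R_inv hφ hx) (g := y)
    fun φ hφ => Subgroup.subset_closure (Or.inl ⟨φ, hφ, y, hy, rfl⟩)
  exact ⟨y * n, ⟨h.L.mul_mem hy (h.R_le_L hn), hf⟩, n⁻¹, h.R.inv_mem hn, by group⟩

/-- An invariant normal part of `L` without fixed points and not central modulo `E`. -/
theorem layer_card {K : Subgroup T} (hK : K.Normal) (hKi : ∀ φ ∈ A, ∀ x ∈ K, φ x ∈ K)
    (hEK : E ≤ K) (hKL : K ≤ h.L) (hKf : ∀ x ∈ K, x ∈ fixedSub A → x ∈ E)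
    (hne : ¬ K ≤ h.W0) : Nat.card K = 64 ∧ Nat.card ↥(K ⊓ h.W0) = 16 := by
  have hVi : ∀ φ ∈ A, ∀ x ∈ K ⊓ h.W0, φ x ∈ K ⊓ h.W0 :=
    fun φ hφ x hx => ⟨hKi φ hφ x hx.1, h.W0_inv hφ hx.2⟩
  have hne' : K ≠ E := fun e => hne (e.le.trans h.E_le_W0)
  obtain ⟨v, hv, hvE, hvc⟩ := h.sys.exists_central_mod h.normal hK hEK hne'
  have hvV : v ∈ K ⊓ h.W0 := ⟨hv, hKL hv, hvc⟩
  have hEV : E ≤ K ⊓ h.W0 := le_inf hEK h.E_le_W0
  obtain ⟨j, hj⟩ := h.sys.exists_card hEV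
  obtain ⟨i, hi⟩ := h.sys.exists_card (inf_le_left : K ⊓ h.W0 ≤ K)
  have hK64 : Nat.card K ≤ 64 := (Subgroup.card_le_of_le hKL).trans h.card_L_le
  have hj2 : 2 ≤ j := by
    by_contra hlt
    rcases Nat.lt_succ_iff.1 (not_le.1 hlt) |>.lt_or_eq with h0 | h1
    · rw [Nat.lt_one_iff.1 h0, pow_zero, one_mul] at hj
      exact hvE ((Subgroup.eq_of_le_of_card_ge hEV hj.le).ge hvV)
    · rw [h1, pow_one] at hj
      obtain ⟨n, hn, hf⟩ := h.sys.exists_fixed h.inv (g := v)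
        fun φ hφ => h.sys.fixed_of_card_two hEV hj h.inv hVi hvV hφ
      exact hvE ((E.mul_mem_cancel_right hn).1 (hKf _ (K.mul_mem hv (hEK hn)) hf))
  have hi2 : 2 ≤ i := by
    by_contra hlt
    rcases Nat.lt_succ_iff.1 (not_le.1 hlt) |>.lt_or_eq with h0 | h1
    · rw [Nat.lt_one_iff.1 h0, pow_zero, one_mul] at hi
      exact hne ((Subgroup.eq_of_le_of_card_ge inf_le_left hi.le).ge.trans inf_le_right)
    · rw [h1, pow_one] at hi
      obtain ⟨r, hr, hrV⟩ := SetLike.not_le_iff_exists.1 hne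
      obtain ⟨n, hn, hf⟩ := h.sys.exists_fixed hVi (g := r)
        fun φ hφ => h.sys.fixed_of_card_two inf_le_left hi hVi hKi hr hφ
      exact hrV ((h.W0.mul_mem_cancel_right hn.2).1
        (h.E_le_W0 (hKf _ (K.mul_mem hr hn.1) hf)))
  rw [h.card] at hj
  rw [hj] at hi
  have h4 : 4 ≤ 2 ^ j := (Nat.pow_le_pow_right (by norm_num) hj2 : 2 ^ 2 ≤ 2 ^ j)
  have h4' : 4 ≤ 2 ^ i := (Nat.pow_le_pow_right (by norm_num) hi2 : 2 ^ 2 ≤ 2 ^ i)
  constructor <;> nlinarith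

/-- With an involution of `L` outside `E`: the shape of `L`. -/
theorem shape_of_singular {s : T} (hs : s ∈ h.L) (hs2 : s ^ 2 = 1) (hsE : s ∉ E) :
    h.L ⊓ fixedSub A ≤ E ∧ Nat.card h.L = 64 ∧ Nat.card h.W0 = 16 := by
  have hsW : s ∉ h.W0 := fun hm => hsE (h.mem_E_of_W0 hm hs2)
  have hfix : h.L ⊓ fixedSub A ≤ E := by
    rcases h.fix_or_fpf with hE | hE
    · by_contra hle
      obtain ⟨a₀, ha₀, ha₀E⟩ := SetLike.not_le_iff_exists.1 hle
      have hRlt : Nat.card h.R < 64 := by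
        refine lt_of_lt_of_le ?_ h.card_L_le
        refine lt_of_le_of_ne (Subgroup.card_le_of_le h.R_le_L) fun e => ha₀E ?_
        exact h.R_fixed ((Subgroup.eq_of_le_of_card_ge h.R_le_L e.ge).ge ha₀.1) ha₀.2
      have hRW : h.R ≤ h.W0 := by
        by_contra hne
        have := (h.layer_card h.R_normal (fun φ hφ x hx => h.R_inv hφ hx) h.E_le_R h.R_le_L
          (fun x hx hx' => h.R_fixed hx hx') hne).1
        omega
      obtain ⟨a, ha, r, hr, rfl⟩ := h.L_decompose hs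
      have hrY := h.L_le_Y (h.R_le_L hr)
      have har : a ^ 2 * r ^ 2 = 1 := by
        rw [← Commute.mul_pow (h.fixed_comm hE ha.1 ha.2 hrY).symm, hs2]
      have hsq : a ^ 2 = r ^ 2 := by
        rw [eq_inv_of_mul_eq_one_left har, h.inv_eq (h.R_le_L hr).2.1]
      have haW : a ∈ h.W0 := by
        refine ⟨ha.1, fun t => ?_⟩
        obtain ⟨c, hc, y, hy, rfl⟩ := h.decompose t
        rw [show ⁅c * y, a⁆ = c * ⁅y, a⁆ * c⁻¹ * ⁅c, a⁆ by
          simp only [commutatorElement_def]; group,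
          commutatorElement_eq_one_iff_mul_comm.2 (h.fixed_comm hE ha.1 ha.2 hy), mul_one,
          mul_inv_cancel, one_mul]
        -- `c a c⁻¹` is fixed with the same square as `a`
        have hb : c * a * c⁻¹ ∈ h.L ⊓ fixedSub A := ⟨h.L_normal.conj_mem a ha.1 c,
          (fixedSub A).mul_mem ((fixedSub A).mul_mem hc ha.2) ((fixedSub A).inv_mem hc)⟩
        have hb2 : (c * a * c⁻¹) ^ 2 = a ^ 2 := by
          rw [conj_pow, hsq, ← conj_pow, conj_eq_commutator_mul,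
            h.sq_mul' (h.E_le_Y ((hRW hr).2 c)) hrY
              (by rw [commutatorElement_eq_one_iff_mul_comm.2 (h.Y_comm hrY ((hRW hr).2 c))]
                  exact E.one_mem),
            h.sq _ ((hRW hr).2 c),
            commutatorElement_eq_one_iff_mul_comm.2 (h.Y_comm hrY ((hRW hr).2 c)),
            one_mul, mul_one]
        rw [commutatorElement_def]
        refine h.fixed_invol hE (h.L.mul_mem hb.1 (h.L.inv_mem ha.1))
          ((fixedSub A).mul_mem hb.2 ((fixedSub A).inv_mem ha.2)) ?_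
        have hcom : Commute (c * a * c⁻¹) a :=
          h.fixed_comm hE ha.1 ha.2 hb.1.1
        rw [hcom.inv_right.mul_pow, hb2, inv_pow, mul_inv_cancel]
      exact hsW (h.W0.mul_mem haW (hRW hr))
    · exact h.fixed_le_of_fpf hE
  obtain ⟨h1, h2⟩ := h.layer_card h.L_normal (fun φ hφ x hx => h.L_inv hφ hx) h.E_le_L le_rfl
    (fun x hx hx' => hfix ⟨hx, hx'⟩) fun hle => hsW (hle hs)
  rw [inf_eq_right.2 h.W0_le_L] at h2
  exact ⟨hfix, h1, h2⟩

/-- An invariant proper part of `W0` containing `E` is `E`. -/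
theorem eq_W0_of_card (hF : h.L ⊓ fixedSub A ≤ E) (hW : Nat.card h.W0 = 16) {V : Subgroup T}
    (hEV : E ≤ V) (hVW : V ≤ h.W0) (hVi : ∀ φ ∈ A, ∀ x ∈ V, φ x ∈ V) (hne : V ≠ E) :
    V = h.W0 := by
  obtain ⟨j, hj⟩ := h.sys.exists_card hEV
  have hle := Subgroup.card_le_of_le hVW
  rw [hW] at hle
  refine Subgroup.eq_of_le_of_card_ge hVW ?_
  rw [hW, hj, h.card]
  by_contra hlt
  have hj1 : j ≤ 1 := by
    by_contra hj2
    have : 2 ^ 2 ≤ 2 ^ j := Nat.pow_le_pow_right (by norm_num) (by omega)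
    omega
  interval_cases j
  · rw [pow_zero, one_mul] at hj
    exact hne (Subgroup.eq_of_le_of_card_ge hEV hj.le).symm
  · rw [pow_one] at hj
    obtain ⟨v, hv, hvE⟩ := SetLike.not_le_iff_exists.1 (fun hle => hne (le_antisymm hle hEV))
    obtain ⟨n, hn, hf⟩ := h.sys.exists_fixed h.inv (g := v)
      fun φ hφ => h.sys.fixed_of_card_two hEV hj h.inv hVi hv hφ
    exact hvE ((E.mul_mem_cancel_right hn).1
      (hF ⟨h.L.mul_mem (hVW hv).1 (h.E_le_L hn), hf⟩))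

/-- Commutators of fixed elements with `L` lie in `W0`. -/
theorem displ_in_W0 (hF : h.L ⊓ fixedSub A ≤ E) (hcard : Nat.card h.L = 64)
    (hW : Nat.card h.W0 = 16) {c : T} (hc : c ∈ fixedSub A) {f : T} (hf : f ∈ h.L) :
    ⁅c, f⁆ ∈ h.W0 := by
  haveI := h.W0_normal
  let V : Subgroup T :=
    { carrier := {f | f ∈ h.L ∧ ∀ c ∈ fixedSub A, ⁅c, f⁆ ∈ h.W0}
      one_mem' := ⟨h.L.one_mem, fun c _ => by simp⟩
      mul_mem' := fun {a b} ha hb => ⟨h.L.mul_mem ha.1 hb.1, fun c hc => by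
        rw [show ⁅c, a * b⁆ = ⁅c, a⁆ * (a * ⁅c, b⁆ * a⁻¹) by
          simp only [commutatorElement_def]; group]
        exact h.W0.mul_mem (ha.2 c hc) (h.W0_normal.conj_mem _ (hb.2 c hc) a)⟩
      inv_mem' := fun {a} ha => ⟨h.L.inv_mem ha.1, fun c hc => by
        rw [show ⁅c, a⁻¹⁆ = a⁻¹ * ⁅c, a⁆⁻¹ * a⁻¹⁻¹ by simp only [commutatorElement_def]; group]
        exact h.W0_normal.conj_mem _ (h.W0.inv_mem (ha.2 c hc)) _⟩ }
  have hWV : h.W0 ≤ V := fun f hf => ⟨hf.1, fun c _ => h.E_le_W0 (hf.2 c)⟩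
  have hVi : ∀ φ ∈ A, ∀ x ∈ V, φ x ∈ V := fun φ hφ x hx => ⟨h.L_inv hφ hx.1, fun c hc => by
    rw [← map_commutator_fixed hφ hc]; exact h.W0_inv hφ (hx.2 c hc)⟩
  have hVL : V ≤ h.L := fun _ hx => hx.1
  suffices hVeq : V = h.L from (hVeq.ge hf).2 c hc
  obtain ⟨v, hv, hvW, hvc⟩ := h.sys.exists_central_mod h.W0_normal h.L_normal h.W0_le_L
    (fun e => by rw [e] at hcard; omega)
  obtain ⟨j, hj⟩ := h.sys.exists_card hWV
  have hle := Subgroup.card_le_of_le hVL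
  rw [hcard] at hle
  refine Subgroup.eq_of_le_of_card_ge hVL ?_
  rw [hcard, hj, hW]
  by_contra hlt
  have hj1 : j ≤ 1 := by
    by_contra hj2
    have : 2 ^ 2 ≤ 2 ^ j := Nat.pow_le_pow_right (by norm_num) (by omega)
    omega
  have hvV : v ∈ V := ⟨hv, fun c _ => hvc c⟩
  interval_cases j
  · rw [pow_zero, one_mul] at hj
    exact hvW ((Subgroup.eq_of_le_of_card_ge hWV hj.le).ge hvV)
  · rw [pow_one] at hj
    obtain ⟨n, hn, hf⟩ := h.sys.exists_fixed (fun φ hφ x hx => h.W0_inv hφ hx) (g := v)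
      fun φ hφ => h.sys.fixed_of_card_two hWV hj (fun φ hφ x hx => h.W0_inv hφ hx) hVi hvV hφ
    exact hvW ((h.W0.mul_mem_cancel_right hn).1
      (h.E_le_W0 (hF ⟨h.L.mul_mem hv hn.1, hf⟩)))

/-- With an involution of `L` outside `E`, the whole of `[T, A] E` is `L`. -/
theorem Y_eq_L_of_singular {s : T} (hs : s ∈ h.L) (hs2 : s ^ 2 = 1) (hsE : s ∉ E) :
    h.Y = h.L := by
  obtain ⟨hF, hcard, hW⟩ := h.shape_of_singular hs hs2 hsE
  refine le_antisymm ?_ h.L_le_Y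
  intro y hy
  by_contra hyL
  -- some power `x` lies outside `L` with square in `L`
  obtain ⟨x, hxY, hxL, hx2⟩ : ∃ x ∈ h.Y, x ∉ h.L ∧ x ^ 2 ∈ h.L := by
    obtain ⟨k, hk⟩ := h.sys.pg y
    have hex : ∃ i, y ^ 2 ^ i ∈ h.L := ⟨k, by rw [hk]; exact h.L.one_mem⟩
    classical
    have hspec := Nat.find_spec hex
    rcases hn : Nat.find hex with _ | i
    · rw [hn, pow_zero, pow_one] at hspec
      exact absurd hspec hyL
    · refine ⟨y ^ 2 ^ i, (h.Y).pow_mem hy _, Nat.find_min hex (by omega), ?_⟩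
      rw [← pow_mul, ← pow_succ, ← hn]
      exact hspec
  haveI := h.L_normal
  by_cases hx2E : x ^ 2 ∈ E
  · refine hxL ?_
    have hH : Nat.card ↥(h.L ⊔ Subgroup.zpowers x) ≤ Nat.card h.L := by
      have hsq : ∀ u ∈ h.L ⊔ Subgroup.zpowers x, u ^ 2 ∈ E := by
        intro u hu
        obtain ⟨l, hl, w, hw, rfl⟩ := Subgroup.mem_sup_of_normal_left.1 hu
        have hwY : w ∈ h.Y := Subgroup.zpowers_le.2 hxY hw
        rw [h.sq_mul' hl.1 hwY (hl.2.2 w hwY)]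
        refine E.mul_mem (E.mul_mem hl.2.1 ?_) (hl.2.2 w hwY)
        obtain ⟨m, rfl⟩ := Subgroup.mem_zpowers_iff.1 hw
        rw [← zpow_natCast, ← zpow_mul, mul_comm, zpow_mul, zpow_natCast]
        exact E.zpow_mem hx2E m
      have := h.sys.card_le_of_sq hsq
      rw [h.card] at this
      omega
    exact (Subgroup.eq_of_le_of_card_ge le_sup_left hH).ge
      (Subgroup.mem_sup_right (Subgroup.mem_zpowers x))
  · -- `x ^ 2` is in the radical
    let Rad : Subgroup T :=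
      { carrier := {l | l ∈ h.L ∧ ∀ u ∈ h.L, u * l = l * u}
        one_mem' := ⟨h.L.one_mem, fun u _ => by simp⟩
        mul_mem' := fun {a b} ha hb => ⟨h.L.mul_mem ha.1 hb.1, fun u hu =>
          ((Commute.mul_right (ha.2 u hu) (hb.2 u hu)) : Commute u (a * b)).eq⟩
        inv_mem' := fun {a} ha => ⟨h.L.inv_mem ha.1, fun u hu =>
          (Commute.inv_right (ha.2 u hu : Commute u a)).eq⟩ }
    have hlRad : x ^ 2 ∈ Rad := ⟨hx2, fun u hu => by
      have hxu := hu.2.2 x hxY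
      refine commutatorElement_eq_one_iff_mul_comm.1 ?_
      rw [← commutatorElement_inv, pow_two, h.comm_mul_left hxY hxu hxu, ← pow_two, h.sq _ hxu,
        inv_one]⟩
    have hEr : E ≤ Rad := fun e he => ⟨h.E_le_L he, fun u hu => h.Y_comm hu.1 he⟩
    have hRn : Rad.Normal := ⟨fun l hl g => ⟨h.L_normal.conj_mem l hl.1 g, fun u hu => by
      have h1 := hl.2 (g⁻¹ * u * g⁻¹⁻¹) (h.L_normal.conj_mem u hu g⁻¹)
      calc u * (g * l * g⁻¹) = g * (g⁻¹ * u * g⁻¹⁻¹ * l) * g⁻¹ := by group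
        _ = g * (l * (g⁻¹ * u * g⁻¹⁻¹)) * g⁻¹ := by rw [h1]
        _ = g * l * g⁻¹ * u := by group⟩⟩
    have hRi : ∀ φ ∈ A, ∀ l ∈ Rad, φ l ∈ Rad := fun φ hφ l hl => ⟨h.L_inv hφ hl.1, fun u hu => by
      have h1 := congrArg φ (hl.2 _ (h.L_inv (A.inv_mem hφ) hu))
      rwa [map_mul, map_mul, MulAut.apply_inv_self] at h1⟩
    obtain ⟨v, hv, hvE, hvc⟩ := h.sys.exists_central_mod h.normal hRn hEr
      fun e => hx2E (e.le hlRad)
    have hW0R : h.W0 = Rad ⊓ h.W0 := (h.eq_W0_of_card hF hW (le_inf hEr h.E_le_W0) inf_le_right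
      (fun φ hφ l hl => ⟨hRi φ hφ l hl.1, h.W0_inv hφ hl.2⟩)
      (fun e => hvE (e.le ⟨hv, hv.1, hvc⟩))).symm
    -- some fixed element moves `s` modulo `E`
    have hsW : s ∉ h.W0 := fun hm => hsE (h.mem_E_of_W0 hm hs2)
    obtain ⟨c, hc, hcs⟩ : ∃ c ∈ fixedSub A, ⁅c, s⁆ ∉ E := by
      by_contra hcon
      push Not at hcon
      refine hsW ⟨hs, fun t => ?_⟩
      obtain ⟨c, hc, u, hu, rfl⟩ := h.decompose t
      rw [show ⁅c * u, s⁆ = c * ⁅u, s⁆ * c⁻¹ * ⁅c, s⁆ by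
        simp only [commutatorElement_def]; group]
      exact E.mul_mem (h.normal.conj_mem _ (hs.2.2 u hu) c) (hcon c hc)
    refine hcs ?_
    -- `⁅c, s⁆ ∈ W0`, an involution
    have hwL : ⁅c, s⁆ ∈ h.L := commutator_mem_of_normal h.L_normal c hs
    have hwW : ⁅c, s⁆ ∈ h.W0 := h.displ_in_W0 hF hcard hW hc hs
    refine h.mem_E_of_W0 hwW ?_
    have hcom : s * ⁅c, s⁆ = ⁅c, s⁆ * s := (hW0R.le hwW).1.2 s hs
    have h1 : (⁅c, s⁆ * s) ^ 2 = 1 := by
      rw [← conj_eq_commutator_mul, conj_pow, hs2]; simp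
    rwa [(Commute.mul_pow (hcom.symm : Commute ⁅c, s⁆ s)), hs2, mul_one] at h1

end Inv4

end Cfsg.Agent.Lib.NormRankTwoAuto23
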