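import Cfsg.Agent.Lib.NormRankTwoAuto23.Bound
import Cfsg.Agent.Lib.NormRankTwoAuto23.QuatDef

/-!
# An invariant normal four-group and a nonabelian `[T, A]`

Then `|T|` is 64 or 128, or `T` has a distinguished quaternion subgroup.
-/

set_option autoImplicit false
set_option linter.unusedSectionVars false
set_option linter.style.haveILetI false

namespace Cfsg.Agent.Lib.NormRankTwoAuto23

open scoped commutatorElement
open Cfsg.Agent.Lib.TwoGroupOddAuto (closure_elemAb)

variable {T : Type*} [Group T] {A : Subgroup (MulAut T)}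

/-- Restriction to `[T, A]`. -/
def resDispl (A : Subgroup (MulAut T)) : A →* MulAut (displ A) :=
  MonoidHom.mk' (fun φ =>
    { toFun := fun x => ⟨φ.1 x, displ_inv φ.2 x.2⟩
      invFun := fun x => ⟨φ.1⁻¹ x, displ_inv (A.inv_mem φ.2) x.2⟩
      left_inv := fun x => Subtype.ext (MulAut.inv_apply_self T φ.1 x.1)
      right_inv := fun x => Subtype.ext (MulAut.apply_inv_self T φ.1 x.1)
      map_mul' := fun x y => Subtype.ext (map_mul φ.1 x.1 y.1) })
    fun _ _ => MulEquiv.ext fun _ => rfl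

theorem resDispl_apply (φ : A) (x : displ A) : ((resDispl A φ x : displ A) : T) = φ.1 x := rfl

variable [Finite T]

/-- `[T, A]` with the restriction of `A` is a setting for the classification. -/
theorem Sys.setting (h : Sys A)
    (hsmall : ∀ B : Subgroup (displ A), B.Normal → IsMulCommutative B → (∀ b ∈ B, b ^ 2 = 1) →
      Nat.card B ≤ 4) :
    TwoGroupOddAuto.Setting (resDispl A).range where
  pg := h.pg.to_subgroup _
  small := hsmall
  odd := h.odd.of_dvd_nat (Subgroup.card_range_dvd (resDispl A))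
  gen := by
    refine eq_top_iff.2 fun x _ => ?_
    have hle : displ A ≤ (Subgroup.closure {g : displ A | ∃ φ ∈ (resDispl A).range, ∃ u,
        g = u⁻¹ * φ u}).map (displ A).subtype :=
      h.displ_le fun φ hφ u hu => Subgroup.mem_map.2 ⟨(⟨u, hu⟩ : displ A)⁻¹ * resDispl A ⟨φ, hφ⟩ ⟨u, hu⟩,
        Subgroup.subset_closure ⟨_, ⟨⟨φ, hφ⟩, rfl⟩, _, rfl⟩, rfl⟩
    obtain ⟨y, hy, hyx⟩ := hle x.2
    exact Subtype.ext hyx ▸ hy

namespace Inv4

variable {E : Subgroup T} (h : Inv4 A E)
include h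

/-- Without a singular element, elementary abelian normal subgroups of `[T, A]` lie in `E`. -/
theorem le_of_noSingular (hns : ∀ s ∈ h.L, s ^ 2 = 1 → s ∈ E) {B : Subgroup T} (hB : B ≤ displ A)
    (hn : ∀ x ∈ displ A, ∀ b ∈ B, x * b * x⁻¹ ∈ B) (_hc : ∀ a ∈ B, ∀ b ∈ B, a * b = b * a)
    (h2 : ∀ b ∈ B, b ^ 2 = 1) : B ≤ E := by
  classical
  haveI : Fact (Nat.Prime 2) := ⟨Nat.prime_two⟩
  haveI := h.normal
  haveI := h.Y_normal
  set K := B ⊔ E with hK
  have hBY : B ≤ h.Y := hB.trans le_sup_left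
  have hKY : K ≤ h.Y := sup_le hBY h.E_le_Y
  have hK2 : ∀ k ∈ K, k ^ 2 = 1 := by
    intro k hk
    obtain ⟨b, hb, e, he, rfl⟩ := Subgroup.mem_sup_of_normal_right.1 hk
    rw [(show Commute b e from h.Y_comm (hBY hb) he).mul_pow, h2 b hb, h.sq e he, one_mul]
  have hKn : ∀ y ∈ h.Y, ∀ k ∈ K, y * k * y⁻¹ ∈ K := by
    intro y hy k hk
    obtain ⟨x, hx, f, hf, rfl⟩ := h.mem_Y_iff.1 hy
    obtain ⟨b, hb, e, he, rfl⟩ := Subgroup.mem_sup_of_normal_right.1 hk
    rw [show x * f * (b * e) * (x * f)⁻¹ = x * (f * b * f⁻¹) * x⁻¹ * (x * f * e * (x * f)⁻¹) by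
      group, ← h.Y_comm (hBY hb) hf, mul_inv_cancel_right]
    exact K.mul_mem (Subgroup.mem_sup_left (hn x hx b hb))
      (Subgroup.mem_sup_right (h.normal.conj_mem e he (x * f)))
  by_contra hBE
  let EY := E.subgroupOf h.Y
  let KY := K.subgroupOf h.Y
  haveI : EY.Normal := inferInstance
  have hKYn : KY.Normal := ⟨fun k hk y => hKn y y.2 k hk⟩
  haveI := hKYn.map (QuotientGroup.mk' EY) (QuotientGroup.mk'_surjective EY)
  have hbot : KY.map (QuotientGroup.mk' EY) ≠ ⊥ := by
    rw [Ne, Subgroup.map_eq_bot_iff, QuotientGroup.ker_mk']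
    intro hle
    exact hBE fun b hb => hle (x := ⟨b, hBY hb⟩) (Subgroup.mem_sup_left hb : b ∈ K)
  obtain ⟨q, ⟨⟨w, hw, rfl⟩, hqc⟩, hq1⟩ := (Subgroup.bot_or_exists_ne_one _).resolve_left
    (PGroups.normal_inf_center_ne_bot ((h.sys.pg.to_subgroup h.Y).to_quotient EY) _ hbot)
  refine hq1 ((QuotientGroup.eq_one_iff w).2 (hns w ⟨w.2, ?_, fun y hy => ?_⟩ (hK2 w hw)))
  · rw [hK2 w hw]; exact E.one_mem
  · have h1 : QuotientGroup.mk' EY ⁅(⟨y, hy⟩ : h.Y), w⁆ = 1 := by
      rw [map_commutatorElement, commutatorElement_eq_one_iff_mul_comm]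
      exact Subgroup.mem_center_iff.1 hqc _
    exact (QuotientGroup.eq_one_iff (⁅(⟨y, hy⟩ : h.Y), w⁆)).1 h1

/-- The case split when `[T, A]` is not abelian. -/
theorem cases_nonabelian (hna : ¬ ∀ a ∈ displ A, ∀ b ∈ displ A, a * b = b * a) :
    Nat.card T = 64 ∨ Nat.card T = 128 ∨ ∃ z x y : T, Quat z x y ∧ z ∈ fixedSub A := by
  classical
  haveI : Fact (Nat.Prime 2) := ⟨Nat.prime_two⟩
  by_cases hns : ∀ s ∈ h.L, s ^ 2 = 1 → s ∈ E
  swap
  · push Not at hns
    obtain ⟨s, hs, hs2, hsE⟩ := hns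
    exact (h.card_T_of_singular hs hs2 hsE).elim Or.inl fun e => Or.inr (Or.inl e)
  have hsmall : ∀ B : Subgroup (displ A), B.Normal → IsMulCommutative B → (∀ b ∈ B, b ^ 2 = 1) →
      Nat.card B ≤ 4 := by
    intro B hBn hBc hB2
    rw [← Subgroup.card_map_of_injective (K := B) (displ A).subtype_injective, ← h.card]
    refine Subgroup.card_le_of_le (h.le_of_noSingular hns (Subgroup.map_subtype_le B) ?_ ?_ ?_)
    · rintro x hx _ ⟨b, hb, rfl⟩
      exact ⟨⟨x, hx⟩ * b * (⟨x, hx⟩)⁻¹, hBn.conj_mem b hb _, rfl⟩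
    · rintro _ ⟨a, ha, rfl⟩ _ ⟨b, hb, rfl⟩
      exact congrArg Subtype.val (setLike_mul_comm (s := B) ha hb)
    · rintro _ ⟨b, hb, rfl⟩
      rw [← map_pow, hB2 b hb, map_one]
  have hna' : ¬ IsMulCommutative (displ A) := fun hc => hna fun a ha b hb =>
    setLike_mul_comm (s := displ A) ha hb
  have hXn := displ_normal (A := A)
  rcases TwoGroupOddAuto.classification (h.sys.setting hsmall) hna' with ⟨⟨e⟩⟩ | ⟨hsp, hcard, h3, hcent⟩ |
      ⟨hes, -, h11⟩
  · -- quaternion
    refine Or.inr (Or.inr ?_)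
    set x : displ A := e.symm (QuaternionGroup.a 1) with hx
    set y : displ A := e.symm (QuaternionGroup.xa 0) with hy
    have hinv : ∀ g : QuaternionGroup 2, g ^ 2 = 1 → g = 1 ∨ g = QuaternionGroup.a 1 * QuaternionGroup.a 1 := by
      decide
    have hu : ∀ v ∈ displ A, v ^ 2 = 1 → v = 1 ∨ v = ((x * x : displ A) : T) := by
      intro v hv hv2
      rcases hinv (e ⟨v, hv⟩) (by rw [← map_pow]; exact (congrArg e (Subtype.ext hv2)).trans (map_one e))
        with h1 | h1
      · exact Or.inl (congrArg Subtype.val ((map_eq_one_iff e e.injective).1 h1))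
      · refine Or.inr (congrArg Subtype.val ((MulEquiv.eq_symm_apply e).2 h1 |>.trans ?_))
        rw [map_mul]
    set z : T := ((x * x : displ A) : T) with hz
    have hzX : z ∈ displ A := (x * x).2
    have hz2 : z ^ 2 = 1 := by
      rw [hz, ← Subgroup.coe_pow, hx, ← map_mul, ← map_pow]
      rw [show (QuaternionGroup.a 1 * QuaternionGroup.a 1 : QuaternionGroup 2) ^ 2 = 1 by decide,
        map_one, Subgroup.coe_one]
    have hz1 : z ≠ 1 := by
      intro hz'
      rw [hz, hx, ← map_mul, OneMemClass.coe_eq_one, map_eq_one_iff _ e.symm.injective] at hz'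
      revert hz'
      decide
    have hzc : ∀ t : T, t * z = z * t := fun t => by
      rcases hu _ (hXn.conj_mem z hzX t) (by rw [conj_pow, hz2]; simp) with h1 | h1
      · exact absurd (conj_eq_one_iff.1 h1) hz1
      · exact mul_inv_eq_iff_eq_mul.1 h1
    have hzf : z ∈ fixedSub A := fun φ hφ => by
      rcases hu _ (displ_inv hφ hzX) (by rw [← map_pow, hz2, map_one]) with h1 | h1
      · exact absurd ((map_eq_one_iff φ φ.injective).1 h1) hz1
      · exact h1
    -- `N = {1, z}`
    let N : Subgroup T := Subgroup.zpowers z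
    have hNmem : ∀ {v : T}, v ∈ N ↔ v = 1 ∨ v = z := by
      intro v
      refine ⟨fun hv => ?_, fun hv => ?_⟩
      · obtain ⟨k, rfl⟩ := Subgroup.mem_zpowers_iff.1 hv
        refine hu _ ((displ A).zpow_mem hzX k) ?_
        rw [← zpow_natCast, ← zpow_mul, mul_comm, zpow_mul, zpow_natCast, hz2, one_zpow]
      · rcases hv with rfl | rfl
        · exact N.one_mem
        · exact Subgroup.mem_zpowers z
    haveI hN : N.Normal := ⟨fun v hv t => by
      rcases hNmem.1 hv with rfl | rfl
      · simp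
      · rw [hzc t, mul_inv_cancel_right]; exact Subgroup.mem_zpowers z⟩
    have hNX : N ≤ displ A := (Subgroup.zpowers_le).2 hzX
    have hcommN : ∀ a ∈ displ A, ∀ b ∈ displ A, ⁅a, b⁆ ∈ N := by
      intro a ha b hb
      refine hNmem.2 (hu _ (commutator_mem_of_normal hXn a hb) ?_)
      have hdec : ∀ p q : QuaternionGroup 2, (p * q * p⁻¹ * q⁻¹) ^ 2 = 1 := by decide
      have h1 : e (⁅(⟨a, ha⟩ : displ A), ⟨b, hb⟩⁆ ^ 2) = e 1 := by
        rw [map_pow, map_commutatorElement, commutatorElement_def, hdec, map_one]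
      exact congrArg Subtype.val (e.injective h1)
    obtain ⟨w, hw, hwN, hwc⟩ := h.sys.exists_central_mod hN hXn hNX
      (fun eq => hna fun a ha b hb => by
        rcases hNmem.1 (eq.le ha) with rfl | rfl
        · simp
        · exact (hzc b).symm)
    let U : Subgroup T :=
      { carrier := {u | u ∈ displ A ∧ ∀ t : T, ⁅t, u⁆ ∈ N}
        one_mem' := ⟨(displ A).one_mem, fun t => by simp⟩
        mul_mem' := fun {a b} ha hb => ⟨(displ A).mul_mem ha.1 hb.1, fun t => by
          rw [show ⁅t, a * b⁆ = ⁅t, a⁆ * (a * ⁅t, b⁆ * a⁻¹) by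
            simp only [commutatorElement_def]; group]
          exact N.mul_mem (ha.2 t) (hN.conj_mem _ (hb.2 t) a)⟩
        inv_mem' := fun {a} ha => ⟨(displ A).inv_mem ha.1, fun t => by
          rw [show ⁅t, a⁻¹⁆ = a⁻¹ * ⁅t, a⁆⁻¹ * a⁻¹⁻¹ by simp only [commutatorElement_def]; group]
          exact hN.conj_mem _ (N.inv_mem (ha.2 t)) _⟩ }
    have hNU : N ≤ U := fun v hv => ⟨hNX hv, fun t => commutator_mem_of_normal hN t hv⟩
    have hUX : U ≤ displ A := fun _ hv => hv.1
    have hUi : ∀ φ ∈ A, ∀ v ∈ U, φ v ∈ U := fun φ hφ v hv => ⟨displ_inv hφ hv.1, fun t => by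
      rcases hNmem.1 (hv.2 (φ⁻¹ t)) with h1 | h1 <;> refine hNmem.2 ?_
      · left; rw [show t = φ (φ⁻¹ t) from (MulAut.apply_inv_self T φ t).symm,
          ← map_commutatorElement, h1, map_one]
      · right; rw [show t = φ (φ⁻¹ t) from (MulAut.apply_inv_self T φ t).symm,
          ← map_commutatorElement, h1, hzf φ hφ]⟩
    have hUtop : displ A ≤ U := by
      have hNc : Nat.card N = 2 := by
        rw [Nat.card_zpowers, orderOf_eq_prime hz2 hz1]
      have hXc : Nat.card (displ A) = 8 := by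
        rw [Nat.card_congr e.toEquiv, Nat.card_eq_fintype_card]; rfl
      obtain ⟨j, hj⟩ := h.sys.exists_card hNU
      have hle := Subgroup.card_le_of_le hUX
      rw [hXc, hj, hNc] at hle
      have hj2 : j ≠ 1 ∧ j ≠ 0 := by
        refine ⟨fun e1 => ?_, fun e0 => ?_⟩
        · rw [e1, pow_one] at hj
          refine hwN (h.sys.fpf_displ hN hcommN hw fun φ hφ => ?_)
          exact h.sys.fixed_of_card_two hNU hj (fun φ hφ v hv => by
            rcases hNmem.1 hv with rfl | rfl
            · simp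
            · rw [hzf φ hφ]; exact Subgroup.mem_zpowers z) hUi ⟨hw, hwc⟩ hφ
        · rw [e0, pow_zero, one_mul] at hj
          exact hwN ((Subgroup.eq_of_le_of_card_ge hNU hj.le).ge ⟨hw, hwc⟩)
      have hj3 : j ≤ 2 := by
        by_contra hh
        have : 2 ^ 3 ≤ 2 ^ j := Nat.pow_le_pow_right (by norm_num) (by omega)
        omega
      exact (Subgroup.eq_of_le_of_card_ge hUX (by
        rw [hXc, hj, hNc, show j = 2 by omega]; norm_num)).ge
    have hmov : ∀ (u : displ A) (t : T), t * (u : T) * t⁻¹ = u ∨ t * (u : T) * t⁻¹ = u * z := by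
      intro u t
      rcases hNmem.1 ((hUtop u.2).2 t) with h1 | h1
      · left; rw [conj_eq_commutator_mul, h1, one_mul]
      · right; rw [conj_eq_commutator_mul, h1, hzc]
    refine ⟨z, x, y, Quat.of_central_mod hzc hz1 (by rw [← pow_two, hz2]) rfl ?_ ?_ (hmov x) (hmov y),
      hzf⟩
    · rw [hz, ← Subgroup.coe_mul, hx, hy, ← map_mul, ← map_mul]
      exact congrArg (fun g => ((e.symm g : displ A) : T)) (by decide)
    · rw [hz, hx, hy, ← Subgroup.coe_inv, ← Subgroup.coe_mul, ← Subgroup.coe_mul, ← Subgroup.coe_mul,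
        ← map_inv, ← map_mul, ← map_mul, ← map_mul, ← map_mul]
      exact congrArg (fun g => ((e.symm g : displ A) : T)) (by decide)
  · -- special of order 64
    obtain ⟨-, hfr, hcm⟩ := hsp
    have hZ2 : ∀ v : displ A, v ^ 2 = 1 → v ∈ Subgroup.center (displ A) := fun v hv => by
      by_cases h1 : v = 1
      · rw [h1]; exact one_mem _
      · exact hcent v (orderOf_eq_prime hv h1)
    have hcommZ : ∀ a b : displ A, ⁅a, b⁆ ∈ Subgroup.center (displ A) := fun a b =>
      hcm ▸ Subgroup.commutator_mem_commutator (Subgroup.mem_top a) (Subgroup.mem_top b)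
    have hsqZ : ∀ a : displ A, a ^ 2 ∈ Subgroup.center (displ A) := fun a =>
      hfr ▸ PGroups.pow_mem_frattini (h.sys.pg.to_subgroup _) a
    -- the involutions of `[T, A]` lie in `E`
    let Om : Subgroup T :=
      { carrier := {v | ∃ hv : v ∈ displ A, (⟨v, hv⟩ : displ A) ^ 2 = 1}
        one_mem' := ⟨(displ A).one_mem, one_pow 2⟩
        mul_mem' := fun {a b} ⟨ha, ha2⟩ ⟨hb, hb2⟩ => ⟨(displ A).mul_mem ha hb, by
          show ((⟨a, ha⟩ : displ A) * ⟨b, hb⟩) ^ 2 = 1
          rw [(show Commute (⟨a, ha⟩ : displ A) ⟨b, hb⟩ from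
            (Subgroup.mem_center_iff.1 (hZ2 _ ha2) _).symm).mul_pow, ha2, hb2, one_mul]⟩
        inv_mem' := fun {a} ⟨ha, ha2⟩ => ⟨(displ A).inv_mem ha, by
          show ((⟨a, ha⟩ : displ A)⁻¹) ^ 2 = 1
          rw [inv_pow, ha2, inv_one]⟩ }
    have hOE : Om ≤ E := h.le_of_noSingular hns (fun v ⟨hv, _⟩ => hv)
      (fun x hx b ⟨hb, hb2⟩ => ⟨(displ A).mul_mem ((displ A).mul_mem hx hb) ((displ A).inv_mem hx), by
        show ((⟨x, hx⟩ : displ A) * ⟨b, hb⟩ * (⟨x, hx⟩)⁻¹) ^ 2 = 1
        rw [conj_pow, hb2]; simp⟩)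
      (fun a ⟨ha, ha2⟩ b ⟨hb, _⟩ => congrArg Subtype.val
        (Subgroup.mem_center_iff.1 (hZ2 _ ha2) ⟨b, hb⟩).symm)
      (fun b ⟨hb, hb2⟩ => congrArg Subtype.val hb2)
    have hOc : Nat.card E ≤ Nat.card Om := by
      rw [h.card]
      let f : Option {v : displ A // orderOf v = 2} → Om := fun o => match o with
        | none => 1
        | some v => ⟨v.1, v.1.2, (congrArg (v.1 ^ ·) v.2).symm.trans (pow_orderOf_eq_one v.1)⟩
      have hf : Function.Injective f := by
        rintro (_ | ⟨v, hv⟩) (_ | ⟨w, hw⟩) hvw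
        · rfl
        · exfalso
          have h' : (1 : T) = (w : T) := congrArg (fun o : Om => (o : T)) hvw
          have : w = 1 := Subtype.ext h'.symm
          rw [this, orderOf_one] at hw; omega
        · exfalso
          have h' : (v : T) = 1 := congrArg (fun o : Om => (o : T)) hvw
          have : v = 1 := Subtype.ext h'
          rw [this, orderOf_one] at hv; omega
        · have h' : (v : T) = (w : T) := congrArg (fun o : Om => (o : T)) hvw
          exact congrArg some (Subtype.ext (Subtype.ext h'))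
      have := Nat.card_le_card_of_injective f hf
      rwa [Finite.card_option, h3] at this
    have hEO : E ≤ Om := (Subgroup.eq_of_le_of_card_ge hOE hOc).ge
    have hEX : E ≤ displ A := fun v hv => (hEO hv).1
    have hcen2 : ∀ v ∈ Subgroup.center (displ A), v ^ 2 = 1 := by
      intro v hv
      rw [← hcm, commutator_def, Subgroup.commutator_def] at hv
      induction hv using Subgroup.closure_induction with
      | mem u hu =>
        obtain ⟨a, -, b, -, rfl⟩ := hu
        have h1 : ⁅a ^ 2, b⁆ = 1 := commutatorElement_eq_one_iff_mul_comm.2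
          (Subgroup.mem_center_iff.1 (hsqZ a) b).symm
        rw [show ⁅a ^ 2, b⁆ = a * ⁅a, b⁆ * a⁻¹ * ⁅a, b⁆ by
          simp only [commutatorElement_def, pow_two]; group,
          Subgroup.mem_center_iff.1 (hcommZ a b) a, mul_inv_cancel_right] at h1
        rw [pow_two, h1]
      | one => exact one_pow 2
      | mul a b ha hb iha ihb =>
        have hac : a ∈ Subgroup.center (displ A) := by
          rw [← hcm, commutator_def, Subgroup.commutator_def]; exact ha
        rw [(show Commute a b from (Subgroup.mem_center_iff.1 hac b).symm).mul_pow, iha, ihb,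
          one_mul]
      | inv a _ iha => rw [inv_pow, iha, inv_one]
    have hcE : ∀ a ∈ displ A, ∀ b ∈ displ A, ⁅a, b⁆ ∈ E := fun a ha b hb =>
      hOE ⟨commutator_mem_of_normal hXn a hb, hcen2 _ (hcommZ ⟨a, ha⟩ ⟨b, hb⟩)⟩
    have hYX : h.Y = displ A := sup_eq_left.2 hEX
    have hXL : displ A ≤ h.L := fun v hv => ⟨hYX.ge hv,
      hOE ⟨(displ A).pow_mem hv 2, hcen2 _ (hsqZ ⟨v, hv⟩)⟩, fun u hu => hcE u (hYX.le hu) v hv⟩
    have hLY : h.Y = h.L := le_antisymm (hYX.le.trans hXL) h.L_le_Y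
    have hF : h.L ⊓ fixedSub A ≤ E := fun v ⟨hv, hvC⟩ =>
      h.sys.fpf_displ h.normal hcE (hYX.le (h.L_le_Y hv)) fun φ hφ => by
        rw [hvC φ hφ, inv_mul_cancel]; exact E.one_mem
    exact (h.card_T hLY hF (by rw [← hLY, hYX, hcard])).elim Or.inl fun e => Or.inr (Or.inl e)
  · -- extraspecial of order 32
    exfalso
    obtain ⟨⟨-, -, hcm⟩, hZ⟩ := hes
    have hcen : ∀ v : displ A, v ∈ Subgroup.center (displ A) → (v : T) ∈ E := by
      intro v hv
      let Z := (Subgroup.center (displ A)).map (displ A).subtype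
      have hle : Z ≤ E := by
        refine h.le_of_noSingular hns (Subgroup.map_subtype_le _) ?_ ?_ ?_
        · rintro x hx _ ⟨b, hb, rfl⟩
          exact ⟨⟨x, hx⟩ * b * (⟨x, hx⟩)⁻¹, (inferInstance : (Subgroup.center (displ A)).Normal).conj_mem b hb _, rfl⟩
        · rintro _ ⟨a, ha, rfl⟩ _ ⟨b, hb, rfl⟩
          exact congrArg Subtype.val (Subgroup.mem_center_iff.1 hb a)
        · rintro _ ⟨b, hb, rfl⟩
          have h2 := pow_card_eq_one' (x := (⟨b, hb⟩ : Subgroup.center (displ A)))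
          rw [hZ] at h2
          exact congrArg Subtype.val (congrArg Subtype.val h2)
      exact hle ⟨v, hv, rfl⟩
    obtain ⟨i, hi, hiZ⟩ : ∃ i : displ A, orderOf i = 2 ∧ i ∉ Subgroup.center (displ A) := by
      by_contra hcon
      push Not at hcon
      have hf : Function.Injective (fun v : {v : displ A // orderOf v = 2} =>
          (⟨v.1, hcon v.1 v.2⟩ : Subgroup.center (displ A))) := fun a b hab =>
        Subtype.ext (congrArg (fun u : Subgroup.center (displ A) => (u : displ A)) hab)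
      have := Nat.card_le_card_of_injective _ hf
      omega
    have hi2 : (i : T) ^ 2 = 1 := congrArg Subtype.val (show i ^ 2 = 1 from hi ▸ pow_orderOf_eq_one i)
    have hiE : (i : T) ∈ E := hns _ ⟨Subgroup.mem_sup_left i.2, by rw [hi2]; exact E.one_mem,
      fun y hy => by
        obtain ⟨x, hx, e, he, rfl⟩ := h.mem_Y_iff.1 hy
        rw [h.comm_mul_left (Subgroup.mem_sup_left hx)
          (commutator_mem_symm (commutator_mem_of_normal h.normal _ he))
          (hcen ⁅(⟨x, hx⟩ : displ A), i⁆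
            (hcm ▸ Subgroup.commutator_mem_commutator (Subgroup.mem_top _) (Subgroup.mem_top _)))]
        exact E.mul_mem (hcen ⁅(⟨x, hx⟩ : displ A), i⁆
            (hcm ▸ Subgroup.commutator_mem_commutator (Subgroup.mem_top _) (Subgroup.mem_top _)))
          (commutator_mem_symm (commutator_mem_of_normal h.normal _ he))⟩ hi2
    exact hiZ (Subgroup.mem_center_iff.2 fun x => Subtype.ext (h.Y_comm (Subgroup.mem_sup_left x.2) hiE))

end Inv4

end Cfsg.Agent.Lib.NormRankTwoAuto23
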